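import Cfsg.Agent.SUThreePres.Data
import Cfsg.Agent.SLShort.Pres

/-!
# A presentation of `SU(3, q)` on 3 generators with at most 22 relations
-/

set_option autoImplicit false

namespace Cfsg.Agent.SUThreePres

open Matrix Classical.Herm Cfsg.Agent.AutPSU Cfsg.Agent.MinIndexPSU3 Cfsg.Agent.SLShort

open scoped commutatorElement

theorem lineSub_map {G H : Type*} [Group G] [Group H] (φ : G →* H) (α : G) (d : ℕ) (x : G) :
    (lineSub α d x).map φ = lineSub (φ α) d (φ x) := by
  rw [lineSub, MonoidHom.map_closure, lineSub, Set.image_image]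
  simp only [tw_map]

theorem orbit_map {G H : Type*} [Group G] [Group H] (φ : G →* H) (α x : G) :
    (Subgroup.closure (Set.range fun i => tw α i x)).map φ =
      Subgroup.closure (Set.range fun i => tw (φ α) i (φ x)) := by
  rw [MonoidHom.map_closure, ← Set.range_comp]
  simp only [Function.comp_def, tw_map]

theorem uniSub_map {G H : Type*} [Group G] [Group H] (φ : G →* H) (η u z : G) :
    (uniSub η u z).map φ = uniSub (φ η) (φ u) (φ z) := by
  rw [uniSub, MonoidHom.map_closure, Set.image_union, ← Set.range_comp, ← Set.range_comp, uniSub]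
  simp only [Function.comp_def, tw_map]

/-- A relation expressing a membership. -/
theorem lift_mem {A : Type} [Group A] {G : Type*} [Group G] (φ : A →* G) (S : Subgroup A) (x : A)
    (hx : φ x ∈ S.map φ) :
    ∃ r, φ r = 1 ∧ ∀ {P : Type} [Group P] (π : A →* P), π r = 1 → π x ∈ S.map π := by
  obtain ⟨s, hs, hse⟩ := hx
  refine ⟨x * s⁻¹, by rw [map_mul, map_inv, hse, mul_inv_cancel], fun π h => ⟨s, hs, ?_⟩⟩
  rw [map_mul, map_inv, mul_inv_eq_one] at h
  exact h.symm

/-- A relation expressing an equation. -/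
theorem lift_eq {A : Type} [Group A] {G : Type*} [Group G] (φ : A →* G) (x y : A)
    (hx : φ x = φ y) :
    ∃ r, φ r = 1 ∧ ∀ {P : Type} [Group P] (π : A →* P), π r = 1 → π x = π y :=
  ⟨x * y⁻¹, by rw [map_mul, map_inv, hx, mul_inv_cancel], fun π h => by
    rwa [map_mul, map_inv, mul_inv_eq_one] at h⟩

theorem eq_of_card_map {P G : Type*} [Group P] [Group G] (Φ : P →* G) (S : Subgroup P) [Finite S]
    (hc : Nat.card S ≤ Nat.card (S.map Φ)) : ∀ x ∈ S, Φ x = 1 → x = 1 := by
  have hb := (Φ.subgroupMap_surjective S).bijective_of_nat_card_le hc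
  intro x hx h1
  exact congrArg Subtype.val (hb.1 (a₁ := ⟨x, hx⟩) (a₂ := 1) (Subtype.ext (by simpa using h1)))

variable {q : ℕ} {F : Type*} [Field F] [Fintype F] {σ : F →+* F} (hu : UCtx σ q) {e m f : Vn 3 F}

include hu

theorem su_three_pres_aux (h : Fr σ e m f) (hq : 3 ≤ q) : Pres (Su 3 F q) 3 22 := by
  classical
  obtain ⟨η, u, z, w, p, k, M, N, D⟩ := exists_gdata hu h hq
  obtain ⟨c0, ζ, a0, b0, hc0, hc0', hζ, hζ1, ha0, ha0', hv0⟩ := D.seeds
  have B := D.rel
  set fη : FreeGroup (Fin 3) := FreeGroup.of 0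
  set fu : FreeGroup (Fin 3) := FreeGroup.of 1
  set fW : FreeGroup (Fin 3) := FreeGroup.of 2
  set φ : FreeGroup (Fin 3) →* Su 3 F q := FreeGroup.lift ![η, u, w]
  have eη : φ fη = η := FreeGroup.lift_apply_of
  have eu : φ fu = u := FreeGroup.lift_apply_of
  have eW : φ fW = w := FreeGroup.lift_apply_of
  have hflag : flagFix σ e ≤ (Subgroup.closure (Set.range fun i => tw fη i fu)).map φ := by
    rw [orbit_map, eη, eu]; exact D.top
  obtain ⟨fz, hfz, ez⟩ := hflag D.zmem
  set UPF : Subgroup (FreeGroup (Fin 3)) := uniSub fη fu fz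
  have hUmap : UPF.map φ = flagFix σ e := by
    refine le_antisymm ?_ (fun x hx => ?_)
    · rw [uniSub_map, eη, eu, ez]
      refine (Subgroup.closure_le _).2 ?_
      have hn : ∀ i x, x ∈ flagFix σ e → tw η i x ∈ flagFix σ e := fun i x hx =>
        (split hu h D.weyl).norm (η ^ i) (by rw [D.tor]; exact Subgroup.npow_mem_zpowers η i) x hx
      rintro _ (⟨i, rfl⟩ | ⟨i, rfl⟩)
      · exact hn i u D.umem
      · exact hn i z D.zmem
    · refine Subgroup.map_mono ?_ (hflag hx)
      exact Subgroup.closure_mono Set.subset_union_left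
  have hsurj : Function.Surjective φ := by
    intro g
    have hU : flagFix σ e ≤ φ.range := hUmap ▸ Subgroup.map_le_range φ UPF
    have hH : (torHom hu h).range ≤ φ.range := by
      rw [D.tor, Subgroup.zpowers_le]; exact ⟨fη, eη⟩
    have hg : g ∈ φ.range := by
      rcases bruhat hu h D.weyl g with ⟨x, hx, l, rfl⟩ | ⟨x, hx, l, y, hy, rfl⟩
      · exact mul_mem (hU hx) (hH ⟨l, rfl⟩)
      · exact mul_mem (mul_mem (mul_mem (hU hx) (hH ⟨l, rfl⟩)) ⟨fW, eW⟩) (hU hy)
    exact hg
  -- relations of the unipotent part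
  obtain ⟨r1, hr1, R1⟩ := lift_eq φ (fη ^ N) 1 (by rw [map_pow, eη, B.order, map_one])
  obtain ⟨r2, hr2, R2⟩ := lift_eq φ (fz ^ p) 1 (by rw [map_pow, ez, B.zp, map_one])
  obtain ⟨r3, hr3, R3⟩ := lift_eq φ (fz * tw fη 1 fz) (tw fη 1 fz * fz) (by
    rw [map_mul, map_mul, tw_map, eη, ez]; exact B.zcomm.eq)
  obtain ⟨r4, hr4, R4⟩ : ∃ r, φ r = 1 ∧ ∀ {P : Type} [Group P] (π : FreeGroup (Fin 3) →* P),
      π r = 1 → Mult (π fη) (π fη ^ M) (π fz) := by
    rcases B.zmult with ⟨-, hm⟩ | hm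
    · obtain ⟨r, hr, R⟩ := lift_eq φ (fη ^ M * fz * (fη ^ M)⁻¹) (fz * tw fη 1 fz) (by
        rw [map_mul, map_mul, map_mul, map_inv, map_pow, tw_map, eη, ez]; exact hm)
      refine ⟨r, hr, fun π hπ => Or.inl ⟨(Commute.refl _).pow_right M, ?_⟩⟩
      have := R π hπ
      rwa [map_mul, map_mul, map_mul, map_inv, map_pow, tw_map] at this
    · obtain ⟨r, hr, R⟩ := lift_mem φ (Subgroup.zpowers fz) (tw fη 1 fz) (by
        rw [MonoidHom.map_zpowers, tw_map, eη, ez]; exact hm)
      refine ⟨r, hr, fun π hπ => Or.inr ?_⟩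
      have := R π hπ
      rwa [MonoidHom.map_zpowers, tw_map] at this
  obtain ⟨dz, hdz, hdz'⟩ := B.zpoly
  obtain ⟨r5, hr5, R5⟩ := lift_mem φ (lineSub fη dz fz) (tw fη dz fz) (by
    rw [lineSub_map, tw_map, eη, ez]; exact hdz')
  set fα := fη ^ (q + 1)
  have eα : φ fα = η ^ (q + 1) := by rw [map_pow, eη]
  set ZF := lineSub fη k fz
  have eZ : ZF.map φ = lineSub η k z := by rw [lineSub_map, eη, ez]
  obtain ⟨r6, hr6, R6⟩ := lift_mem φ ZF (fu ^ p) (by rw [eZ, map_pow, eu]; exact B.up)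
  obtain ⟨r7, hr7, R7⟩ := lift_mem φ ZF ⁅fu, tw fα 1 fu⁆ (by
    rw [eZ, map_commutatorElement, tw_map, eu, eα]; exact B.ucomm)
  obtain ⟨r8, hr8, R8⟩ : ∃ r, φ r = 1 ∧ ∀ {P : Type} [Group P] (π : FreeGroup (Fin 3) →* P),
      π r = 1 → ((π fη ^ (q + 1)) ^ M * π fu * ((π fη ^ (q + 1)) ^ M)⁻¹) *
          (π fu * tw (π fη ^ (q + 1)) 1 (π fu))⁻¹ ∈ ZF.map π ∨
        ∃ n : ℕ, tw (π fη ^ (q + 1)) 1 (π fu) * (π fu ^ n)⁻¹ ∈ ZF.map π := by
    rcases B.umult with hm | ⟨n, hm⟩
    · obtain ⟨r, hr, R⟩ := lift_mem φ ZF ((fα ^ M * fu * (fα ^ M)⁻¹) * (fu * tw fα 1 fu)⁻¹) (by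
        rw [eZ]; simp only [map_mul, map_inv, map_pow, tw_map, eu, eη, fα]; exact hm)
      refine ⟨r, hr, fun π hπ => Or.inl ?_⟩
      have := R π hπ
      simpa only [map_mul, map_inv, map_pow, tw_map, fα] using this
    · obtain ⟨r, hr, R⟩ := lift_mem φ ZF (tw fα 1 fu * (fu ^ n)⁻¹) (by
        rw [eZ]; simp only [map_mul, map_inv, map_pow, tw_map, eu, eη, fα]; exact hm)
      refine ⟨r, hr, fun π hπ => Or.inr ⟨n, ?_⟩⟩
      have := R π hπ
      simpa only [map_mul, map_inv, map_pow, tw_map, fα] using this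
  obtain ⟨du, hdu, hdu'⟩ := B.upoly
  obtain ⟨r9, hr9, R9⟩ := lift_mem φ (lineSub fα du fu ⊔ ZF) (tw fα du fu) (by
    rw [Subgroup.map_sup, eZ, lineSub_map, tw_map, eα, eu]; exact hdu')
  obtain ⟨r10, hr10, R10⟩ := lift_mem φ ZF ⁅fu, tw fη 1 fu⁆ (by
    rw [eZ, map_commutatorElement, tw_map, eu, eη]; exact B.mut0)
  obtain ⟨r11, hr11, R11⟩ := lift_mem φ ZF ⁅fu, tw fα 1 (tw fη 1 fu)⁆ (by
    rw [eZ, map_commutatorElement, tw_map, tw_map, eu, eη, eα]; exact B.mut1)
  obtain ⟨r12, hr12, R12⟩ := lift_mem φ ZF ⁅tw fα 1 fu, tw fη 1 fu⁆ (by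
    rw [eZ, map_commutatorElement, tw_map, tw_map, eu, eη, eα]; exact B.mut1')
  obtain ⟨r13, hr13, R13⟩ := lift_mem φ (lineSub fα k fu ⊔ lineSub fα k (tw fη 1 fu) ⊔ ZF)
    (tw fη 2 fu) (by
      rw [Subgroup.map_sup, Subgroup.map_sup, eZ, lineSub_map, lineSub_map, tw_map, tw_map, eα, eu,
        eη]
      exact B.sq)
  -- relations of the Weyl element
  have hww : w * w = 1 := (split hu h D.weyl).ww
  obtain ⟨r14, hr14, R14⟩ := lift_eq φ (fW * fW) 1 (by rw [map_mul, eW, hww, map_one])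
  obtain ⟨r15, hr15, R15⟩ := lift_mem φ (Subgroup.zpowers fη) (fW * fη * fW) (by
    rw [MonoidHom.map_zpowers, map_mul, map_mul, eη, eW, ← D.tor]
    obtain ⟨l, hl⟩ : η ∈ (torHom hu h).range := D.tor ▸ Subgroup.mem_zpowers η
    obtain ⟨l', hl'⟩ := tor_weyl hu h D.weyl l
    exact ⟨l', by rw [← hl', hl]⟩)
  have seed : ∀ x : Su 3 F q, x ∈ flagFix σ e → x ≠ 1 →
      ∃ r, φ r = 1 ∧ ∃ xF ∈ UPF, φ xF = x ∧ ∀ {P : Type} [Group P] (π : FreeGroup (Fin 3) →* P),
        π r = 1 → Hua (UPF.map π) (Subgroup.zpowers (π fη)) (π fW) (π xF) := by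
    intro x hx hx1
    obtain ⟨xF, hxF, exF⟩ := hUmap.symm ▸ hx
    obtain ⟨a, ha, l, c, hc, hgood⟩ := exists_good hu h D.weyl hx hx1
    obtain ⟨aF, haF, eaF⟩ := hUmap.symm ▸ ha
    obtain ⟨cF, hcF, ecF⟩ := hUmap.symm ▸ hc
    obtain ⟨i, hi⟩ : torHom hu h l ∈ Subgroup.zpowers η := D.tor ▸ ⟨l, rfl⟩
    obtain ⟨r, hr, R⟩ := lift_eq φ (fW * xF * fW) (aF * fη ^ i * fW * cF) (by
      simp only [map_mul, map_zpow, eW, eη, exF, eaF, ecF]
      rw [hgood, ← hi])
    refine ⟨r, hr, xF, hxF, exF, fun π hπ => ⟨π aF, ⟨aF, haF, rfl⟩, π fη ^ i, ⟨i, rfl⟩, π cF,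
      ⟨cF, hcF, rfl⟩, ?_⟩⟩
    have := R π hπ
    simpa only [map_mul, map_zpow] using this
  obtain ⟨r16, hr16, xc, hxc, exc, R16⟩ := seed _ (h.uE_mem hu (adm_zero.2 hc0))
    (fun h1 => hc0' ((h.uE_eq_one hu (adm_zero.2 hc0)).1 h1).2)
  have hζ0 : ζ ≠ 0 := left_ne_zero_of_mul_eq_one hζ1
  have hadm : ∀ j : ℕ, Adm σ (ζ ^ j * a0) b0 := fun j => by
    show b0 + σ b0 = -(σ (ζ ^ j * a0) * (ζ ^ j * a0))
    have e1 : σ ζ ^ j * ζ ^ j = 1 := by rw [← mul_pow, mul_comm, hζ1, one_pow]
    have e2 : b0 + σ b0 = -(σ a0 * a0) := ha0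
    rw [map_mul, map_pow, e2]
    linear_combination (σ a0 * a0) * e1
  have sd : ∀ j : ℕ, uE hu e m (ζ ^ j * a0) b0 ≠ 1 := fun j h1 =>
    mul_ne_zero (pow_ne_zero _ hζ0) ha0' ((h.uE_eq_one hu (hadm j)).1 h1).1
  obtain ⟨r17, hr17, x0, hx0, ex0, R17⟩ := seed _ (h.uE_mem hu (hadm 0)) (sd 0)
  obtain ⟨r18, hr18, x1, hx1, ex1, R18⟩ := seed _ (h.uE_mem hu (hadm 1)) (sd 1)
  obtain ⟨r19, hr19, x2, hx2, ex2, R19⟩ := seed _ (h.uE_mem hu (hadm 2)) (sd 2)
  -- the commutation of the root groups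
  obtain ⟨Luz, hL3, hLker, RL⟩ : ∃ L : List (FreeGroup (Fin 3)), L.length ≤ 3 ∧ (∀ r ∈ L, φ r = 1) ∧
      ∀ {P : Type} [Group P] (π : FreeGroup (Fin 3) →* P), (∀ r ∈ L, π r = 1) →
        (π fη ^ N = 1) → (∀ i, tw (π fη) i (π fz) ∈ lineSub (π fη) k (π fz)) →
        (tw (π fη) (q - 1) (π fz) = π fz) →
        ∀ i, Commute (π fu) (tw (π fη) i (π fz)) := by
    have hc : ∀ i, φ ⁅fu, tw fη i fz⁆ = 1 := fun i => by
      rw [map_commutatorElement, tw_map, eu, eη, ez, commutatorElement_eq_one_iff_commute]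
      exact B.uz i
    rcases Nat.lt_or_ge k 4 with hk | hk
    · refine ⟨(List.range k).map fun i => ⁅fu, tw fη i fz⁆, by simp; omega, ?_, ?_⟩
      · intro r hr
        obtain ⟨i, -, rfl⟩ := List.mem_map.1 hr
        exact hc i
      · intro P _ π hπ _ hall _ j
        have hle : lineSub (π fη) k (π fz) ≤ Subgroup.centralizer {π fu} := by
          refine (Subgroup.closure_le _).2 ?_
          rintro _ ⟨i, hi, rfl⟩
          have := hπ _ (List.mem_map.2 ⟨i, List.mem_range.2 hi, rfl⟩)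
          rw [map_commutatorElement, tw_map, commutatorElement_eq_one_iff_commute] at this
          exact Subgroup.mem_centralizer_singleton_iff.2 this.eq.symm
        exact (Subgroup.mem_centralizer_singleton_iff.1 (hle (hall j))).symm
    · set fτ := fη ^ (q - 1)
      obtain ⟨r, hr, R⟩ := lift_mem φ (Subgroup.closure (Set.range fun i => tw fτ i fu)) (tw fη 1 fu)
        (by rw [orbit_map, tw_map, eu, map_pow, eη]; exact D.gen hk)
      refine ⟨[⁅fu, tw fη 0 fz⁆, r], by simp, ?_, ?_⟩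
      · intro r' hr'
        simp only [List.mem_cons, List.not_mem_nil, or_false] at hr'
        rcases hr' with rfl | rfl
        exacts [hc 0, hr]
      · intro P _ π hπ hord _ hfix j
        have h0 := hπ _ (List.mem_cons_self ..)
        rw [map_commutatorElement, tw_map, tw_zero, commutatorElement_eq_one_iff_commute] at h0
        have h1 := R π (hπ r (by simp))
        rw [orbit_map, tw_map, map_pow] at h1
        set τ := π fη ^ (q - 1) with hτ
        have hτz : ∀ i, tw τ i (π fz) = π fz := by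
          intro i
          induction i with
          | zero => rw [tw_zero]
          | succ i ih =>
            rw [← tw_tw, show tw τ 1 (π fz) = tw (π fη) (q - 1) (π fz) by simp [tw, τ], hfix, ih]
        set V := Subgroup.closure (Set.range fun i => tw τ i (π fu)) with hV
        have hVc : V ≤ Subgroup.centralizer {π fz} := by
          refine (Subgroup.closure_le _).2 ?_
          rintro _ ⟨i, rfl⟩
          have := commute_tw τ i h0
          rw [hτz] at this
          exact Subgroup.mem_centralizer_singleton_iff.2 this.eq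
        have hcomm : Commute τ (π fη) := (Commute.refl _).pow_left _
        have hVτ : ∀ i, V ≤ V.comap (MulAut.conj (τ ^ i)).toMonoidHom := fun i => by
          refine (Subgroup.closure_le _).2 ?_
          rintro _ ⟨j, rfl⟩
          show tw τ i (tw τ j (π fu)) ∈ V
          rw [tw_tw]
          exact Subgroup.subset_closure ⟨_, rfl⟩
        have hVη : V ≤ V.comap (MulAut.conj (π fη)).toMonoidHom := by
          refine (Subgroup.closure_le _).2 ?_
          rintro _ ⟨i, rfl⟩
          show π fη * tw τ i (π fu) * (π fη)⁻¹ ∈ V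
          rw [tw_comm hcomm, ← tw_one]
          exact hVτ i h1
        have hall : ∀ i, tw (π fη) i (π fu) ∈ V := by
          intro i
          induction i with
          | zero => rw [tw_zero]; exact Subgroup.subset_closure ⟨0, tw_zero _ _⟩
          | succ i ih => rw [add_comm, ← tw_tw, tw_one]; exact hVη ih
        have hN : 0 < N := B.npos
        have h2 : Commute (tw (π fη) (j * (N - 1)) (π fu)) (π fz) :=
          Subgroup.mem_centralizer_singleton_iff.1 (hVc (hall _))
        have h3 := commute_tw (π fη) j h2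
        rw [tw_tw, show j + j * (N - 1) = j * N by
          obtain ⟨n, rfl⟩ : ∃ n, N = n + 1 := ⟨N - 1, by omega⟩
          rw [Nat.add_sub_cancel, mul_add, mul_one, add_comm]] at h3
        rwa [show tw (π fη) (j * N) (π fu) = π fu by simp [tw, pow_mul', hord]] at h3
  -- assembling
  let R : Finset (FreeGroup (Fin 3)) := ([r1, r2, r3, r4, r5, r6, r7, r8, r9, r10, r11, r12, r13,
    r14, r15, r16, r17, r18, r19] ++ Luz).toFinset
  refine ⟨φ, hsurj, R, (List.toFinset_card_le _).trans (by simp; omega), ?_⟩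
  have hRker : ∀ r ∈ R, φ r = 1 := by
    intro r hr
    simp only [R, List.mem_toFinset, List.mem_append, List.mem_cons, List.not_mem_nil, or_false] at hr
    rcases hr with hr | hr
    · rcases hr with rfl | rfl | rfl | rfl | rfl | rfl | rfl | rfl | rfl | rfl | rfl | rfl | rfl |
        rfl | rfl | rfl | rfl | rfl | rfl <;> assumption
    · exact hLker r hr
  refine Cfsg.Agent.ShortPres.ker_eq_normalClosure φ _ (fun r hr => hRker r hr) fun g hg => ?_
  set K := Subgroup.normalClosure (R : Set (FreeGroup (Fin 3)))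
  let π : FreeGroup (Fin 3) →* FreeGroup (Fin 3) ⧸ K := QuotientGroup.mk' K
  let Φ : FreeGroup (Fin 3) ⧸ K →* Su 3 F q :=
    QuotientGroup.lift K φ (Subgroup.normalClosure_le_normal fun r hr => hRker r hr)
  have hΦ : ∀ y, Φ (π y) = φ y := fun y => rfl
  have hπ : ∀ r ∈ R, π r = 1 := fun r hr =>
    (QuotientGroup.eq_one_iff r).2 (Subgroup.subset_normalClosure hr)
  have hmem : ∀ r ∈ [r1, r2, r3, r4, r5, r6, r7, r8, r9, r10, r11, r12, r13,
      r14, r15, r16, r17, r18, r19], π r = 1 := fun r hr =>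
    hπ r (List.mem_toFinset.2 (List.mem_append_left _ hr))
  set H := π fη
  set U := π fu
  set Z := π fz
  have P1 : H ^ N = 1 := by
    simpa only [map_pow, map_one] using R1 π (hmem r1 (by simp))
  have P2 : Z ^ p = 1 := by simpa only [map_pow, map_one] using R2 π (hmem r2 (by simp))
  have P3 : Commute Z (tw H 1 Z) := by
    have := R3 π (hmem r3 (by simp))
    rwa [map_mul, map_mul, tw_map] at this
  have P4 : Mult H (H ^ M) Z := R4 π (hmem r4 (by simp))
  have P5 : ∃ d ≤ k, tw H d Z ∈ lineSub H d Z := ⟨dz, hdz, by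
    have := R5 π (hmem r5 (by simp))
    rwa [lineSub_map, tw_map] at this⟩
  have hZP : ZF.map π = lineSub H k Z := lineSub_map π fη k fz
  obtain ⟨hzall, hzfin, hzcard⟩ := line_bound D.pr.pos P2 (self_commute P4 P3) P5
  have hzinj : ∀ x ∈ lineSub H k Z, Φ x = 1 → x = 1 := by
    refine eq_of_card_map Φ _ ?_
    rw [lineSub_map, show Φ H = η from eη, show Φ Z = z from ez, D.zcard, B.qeq]
    exact hzcard
  have P6 : tw H (q - 1) Z = Z := by
    refine mul_inv_eq_one.1 (hzinj _ (mul_mem (hzall _) (inv_mem (by simpa [tw_zero] using hzall 0))) ?_)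
    rw [map_mul, map_inv, tw_map, show Φ H = η from eη, show Φ Z = z from ez, D.zfix, mul_inv_cancel]
  have P7 : ∀ i, Commute U (tw H i Z) := RL π (fun r hr =>
    hπ r (List.mem_toFinset.2 (List.mem_append_right _ hr))) P1 hzall P6
  have BP : BorelRel H U Z p k q M N := by
    refine ⟨B.npos, B.ppos, B.qeq, P1, P2, P3, P4, P5, P7, ?_, ?_, ?_, ?_, ?_, ?_, ?_, ?_⟩
    · have := R6 π (hmem r6 (by simp))
      rwa [hZP, map_pow] at this
    · have := R7 π (hmem r7 (by simp))
      rwa [hZP, map_commutatorElement, tw_map, map_pow] at this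
    · have := R8 π (hmem r8 (by simp))
      rwa [hZP] at this
    · refine ⟨du, hdu, ?_⟩
      have := R9 π (hmem r9 (by simp))
      rwa [Subgroup.map_sup, hZP, lineSub_map, tw_map, map_pow] at this
    · have := R10 π (hmem r10 (by simp))
      rwa [hZP, map_commutatorElement, tw_map] at this
    · have := R11 π (hmem r11 (by simp))
      rwa [hZP, map_commutatorElement, tw_map, tw_map, map_pow] at this
    · have := R12 π (hmem r12 (by simp))
      rwa [hZP, map_commutatorElement, tw_map, tw_map, map_pow] at this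
    · have := R13 π (hmem r13 (by simp))
      rwa [Subgroup.map_sup, Subgroup.map_sup, hZP, lineSub_map, lineSub_map, tw_map, tw_map,
        map_pow] at this
  obtain ⟨hUfin, hUcard⟩ := BP.bound
  have hUP : UPF.map π = uniSub H U Z := uniSub_map π fη fu fz
  have hUPΦ : (uniSub H U Z).map Φ = flagFix σ e := by
    rw [← hUP, Subgroup.map_map]; exact hUmap
  have hinjU : ∀ x ∈ uniSub H U Z, Φ x = 1 → x = 1 :=
    eq_of_card_map Φ _ (by rw [hUPΦ, card_flag hu h]; exact hUcard)
  set W := π fW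
  have P14 : W * W = 1 := by simpa only [map_mul, map_one] using R14 π (hmem r14 (by simp))
  have P15 : W * H * W ∈ Subgroup.zpowers H := by
    have := R15 π (hmem r15 (by simp))
    rwa [MonoidHom.map_zpowers, map_mul, map_mul] at this
  have hnorm : Subgroup.zpowers H ≤ Subgroup.normalizer (uniSub H U Z : Set _) :=
    Subgroup.zpowers_le.2 (BP.mem_normalizer BP.uni_stable)
  have L : Lifted Φ (uniSub H U Z) (Subgroup.zpowers H) W (flagFix σ e) (torHom hu h).range w :=
    { split := split hu h D.weyl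
      mapU := hUPΦ
      mapH := by rw [MonoidHom.map_zpowers, D.tor]; exact congrArg Subgroup.zpowers eη
      injU := hinjU
      injH := by
        rintro x ⟨i, rfl⟩ hx
        have hx' : η ^ i = 1 := by rw [← eη, ← map_zpow]; exact hx
        rw [← orderOf_dvd_iff_zpow_eq_one, D.ord] at hx'
        obtain ⟨j, rfl⟩ := hx'
        show H ^ ((N : ℤ) * j) = 1
        rw [_root_.zpow_mul, zpow_natCast, P1, _root_.one_zpow]
      mapW := eW
      norm := fun x hx u hu' => (Subgroup.mem_normalizer_iff.1 (hnorm hx) u).1 hu'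
      ww := P14
      wh := by
        rintro x ⟨i, rfl⟩
        have hW : W⁻¹ = W := inv_eq_of_mul_eq_one_right P14
        have e1 : W * H ^ i * W = (W * H * W) ^ i := by
          have := map_zpow (MulAut.conj W).toMonoidHom H i
          simpa [hW] using this
        show W * H ^ i * W ∈ Subgroup.zpowers H
        rw [e1]
        exact zpow_mem P15 i
      gen := by
        rw [eq_top_iff]
        intro y _
        obtain ⟨y, rfl⟩ := QuotientGroup.mk'_surjective K y
        refine (show (⊤ : Subgroup (FreeGroup (Fin 3))) ≤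
          (uniSub H U Z ⊔ Subgroup.zpowers H ⊔ Subgroup.zpowers W).comap π from ?_) (Subgroup.mem_top y)
        rw [← FreeGroup.closure_range_of, Subgroup.closure_le]
        rintro _ ⟨i, rfl⟩
        fin_cases i
        · exact Subgroup.mem_sup_left (Subgroup.mem_sup_right (Subgroup.mem_zpowers H))
        · exact Subgroup.mem_sup_left (Subgroup.mem_sup_left
            (Subgroup.subset_closure (Or.inl ⟨0, tw_zero _ _⟩)))
        · exact Subgroup.mem_sup_right (Subgroup.mem_zpowers W) }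
  have hua := hua_all hu h D.weyl L hc0 hc0' hζ hζ1 ha0 ha0' hv0
    (fun x hx hxe => by
      rw [L.U_ext hx (hUP ▸ ⟨xc, hxc, rfl⟩ : π xc ∈ uniSub H U Z) (hxe.trans exc.symm)]
      exact hUP ▸ R16 π (hmem r16 (by simp)))
    (fun j hj x hx hxe => by
      interval_cases j
      · rw [L.U_ext hx (hUP ▸ ⟨x0, hx0, rfl⟩ : π x0 ∈ uniSub H U Z) (hxe.trans ex0.symm)]
        exact hUP ▸ R17 π (hmem r17 (by simp))
      · rw [L.U_ext hx (hUP ▸ ⟨x1, hx1, rfl⟩ : π x1 ∈ uniSub H U Z) (hxe.trans ex1.symm)]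
        exact hUP ▸ R18 π (hmem r18 (by simp))
      · rw [L.U_ext hx (hUP ▸ ⟨x2, hx2, rfl⟩ : π x2 ∈ uniSub H U Z) (hxe.trans ex2.symm)]
        exact hUP ▸ R19 π (hmem r19 (by simp)))
  exact (QuotientGroup.eq_one_iff g).1 (L.injective hua (show Φ (π g) = Φ 1 by rw [hΦ, hg, map_one]))

theorem center_le_stab (v : Vn 3 F) : Subgroup.center (Su 3 F q) ≤ lineStab v := fun z hz => by
  obtain ⟨a, ha⟩ := center_scalar hu (by omega) hz
  exact mem_lineStab.2 ⟨a, ha v⟩

omit hu in
/-- `SU(3, q)` on 3 generators with at most 22 relations. -/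
theorem su_three_pres {q : ℕ} (hF : Fintype.card F = q ^ 2) (hq : 3 ≤ q) :
    Pres (Su 3 F q) 3 22 := by
  obtain ⟨σ, hu⟩ := exists_uctx hF
  obtain ⟨e, m, f, h⟩ := exists_frame_base hu
  exact su_three_pres_aux hu h hq

omit hu in
/-- `PSU(3, q)` on 3 generators with at most 23 relations. -/
theorem psu_three_pres {q : ℕ} (hF : Fintype.card F = q ^ 2) (hq : 3 ≤ q) :
    Pres (Cfsg.PSU 3 F q) 3 23 := by
  obtain ⟨σ, hu⟩ := exists_uctx hF
  obtain ⟨e, m, f, h⟩ := exists_frame_base hu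
  let χ : Subgroup.center (Su 3 F q) →* F :=
    (Units.coeHom F).comp ((lam h.hp.e_ne).comp (Subgroup.inclusion (center_le_stab hu e)))
  have hχ : Function.Injective χ := by
    intro a b hab
    obtain ⟨la, hla⟩ := center_scalar hu (by norm_num) a.2
    obtain ⟨lb, hlb⟩ := center_scalar hu (by norm_num) b.2
    have ha : χ a = la := lam_eq h.hp.e_ne ⟨a.1, center_le_stab hu e a.2⟩ (hla e)
    have hb : χ b = lb := lam_eq h.hp.e_ne ⟨b.1, center_le_stab hu e b.2⟩ (hlb e)
    refine Subtype.ext (su_ext_mulVec fun v => ?_)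
    rw [hla, hlb, ← ha, hab, hb]
  have : IsCyclic (Subgroup.center (Su 3 F q)) := isCyclic_of_subgroup_isDomain χ hχ
  obtain ⟨c, hc⟩ := IsCyclic.exists_generator (α := Subgroup.center (Su 3 F q))
  refine (su_three_pres hF hq).quotient (QuotientGroup.mk' _) (QuotientGroup.mk'_surjective _)
    (c : Su 3 F q) ?_
  rw [QuotientGroup.ker_mk']
  refine le_antisymm (fun x hx => ?_) (Subgroup.normalClosure_le_normal (by simp))
  obtain ⟨j, hj⟩ := hc ⟨x, hx⟩
  rw [show x = (c : Su 3 F q) ^ j from (congrArg Subtype.val hj).symm]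
  exact zpow_mem (Subgroup.subset_normalClosure (by simp)) j

end Cfsg.Agent.SUThreePres
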