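import Cfsg.Agent.SUThreePres.Trick

/-!
# The unipotent part from few relations
-/

set_option autoImplicit false

namespace Cfsg.Agent.SUThreePres

variable {P : Type*} [Group P]

open scoped commutatorElement

/-- The relations on a torus generator `η`, a unipotent element `u` and a central one `z`. -/
structure BorelRel (η u z : P) (p f q m N : ℕ) : Prop where
  npos : 0 < N
  ppos : 0 < p
  qeq : q = p ^ f
  order : η ^ N = 1
  zp : z ^ p = 1
  zcomm : Commute z (tw η 1 z)
  zmult : Mult η (η ^ m) z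
  zpoly : ∃ d ≤ f, tw η d z ∈ lineSub η d z
  uz : ∀ i, Commute u (tw η i z)
  up : u ^ p ∈ lineSub η f z
  ucomm : ⁅u, tw (η ^ (q + 1)) 1 u⁆ ∈ lineSub η f z
  umult : ((η ^ (q + 1)) ^ m * u * ((η ^ (q + 1)) ^ m)⁻¹) * (u * tw (η ^ (q + 1)) 1 u)⁻¹ ∈ lineSub η f z ∨
    ∃ k : ℕ, tw (η ^ (q + 1)) 1 u * (u ^ k)⁻¹ ∈ lineSub η f z
  upoly : ∃ d ≤ f, tw (η ^ (q + 1)) d u ∈ lineSub (η ^ (q + 1)) d u ⊔ lineSub η f z
  mut0 : ⁅u, tw η 1 u⁆ ∈ lineSub η f z
  mut1 : ⁅u, tw (η ^ (q + 1)) 1 (tw η 1 u)⁆ ∈ lineSub η f z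
  mut1' : ⁅tw (η ^ (q + 1)) 1 u, tw η 1 u⁆ ∈ lineSub η f z
  sq : tw η 2 u ∈
    lineSub (η ^ (q + 1)) f u ⊔ lineSub (η ^ (q + 1)) f (tw η 1 u) ⊔ lineSub η f z

/-- The unipotent subgroup. -/
def uniSub (η u z : P) : Subgroup P :=
  Subgroup.closure (Set.range (fun i => tw η i u) ∪ Set.range (fun i => tw η i z))

namespace BorelRel

variable {η u z : P} {p f q m N : ℕ} (B : BorelRel η u z p f q m N)

include B

theorem tw_period (x : P) (i k : ℕ) : tw η (i + k * N) x = tw η i x := by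
  simp [tw, pow_add, pow_mul', B.order]

theorem tw_back (x : P) (i : ℕ) : ∃ j, ∀ y, tw η i (tw η j y) = y ∧ tw η j (tw η i x) = x := by
  refine ⟨i * (N - 1), fun y => ?_⟩
  have e : i + i * (N - 1) = 0 + i * N := by
    have := B.npos
    rw [zero_add, Nat.mul_sub, mul_one]
    have : i ≤ i * N := Nat.le_mul_of_pos_right i B.npos
    omega
  rw [tw_tw, tw_tw, add_comm (i * (N - 1)) i, e, B.tw_period, B.tw_period, tw_zero, tw_zero]
  exact ⟨rfl, rfl⟩

theorem mem_normalizer {S : Subgroup P} (h : ∀ x ∈ S, tw η 1 x ∈ S) :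
    η ∈ Subgroup.normalizer (S : Set P) := by
  have hall : ∀ i, ∀ x ∈ S, tw η i x ∈ S := by
    intro i
    induction i with
    | zero => intro x hx; rwa [tw_zero]
    | succ i ih => intro x hx; rw [add_comm, ← tw_tw]; exact h _ (ih x hx)
  rw [Subgroup.mem_normalizer_iff]
  intro x
  refine ⟨fun hx => by simpa [tw] using h x hx, fun hx => ?_⟩
  have h' := hall (N - 1) _ hx
  rw [← tw_one η x, tw_tw, show N - 1 + 1 = 0 + 1 * N by have := B.npos; omega, B.tw_period,
    tw_zero] at h'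
  exact h'

theorem zline : (∀ i, tw η i z ∈ lineSub η f z) ∧ Finite ↥(lineSub η f z) ∧
    Nat.card ↥(lineSub η f z) ≤ q :=
  B.qeq ▸ line_bound B.ppos B.zp (self_commute B.zmult B.zcomm) B.zpoly

theorem u_central (i j : ℕ) : Commute (tw η i u) (tw η j z) := by
  obtain ⟨k, hk⟩ := B.tw_back z i
  have := commute_tw η i (B.uz (k + j))
  rwa [← tw_tw, (hk (tw η j z)).1] at this

theorem uni_stable : ∀ x ∈ uniSub η u z, tw η 1 x ∈ uniSub η u z := by
  intro x hx
  have : uniSub η u z ≤ (uniSub η u z).comap (MulAut.conj (η ^ 1)).toMonoidHom := by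
    refine (Subgroup.closure_le _).mpr ?_
    rintro _ (⟨i, rfl⟩ | ⟨i, rfl⟩)
    · show tw η 1 (tw η i u) ∈ uniSub η u z
      rw [tw_tw]
      exact Subgroup.subset_closure (Or.inl ⟨_, rfl⟩)
    · show tw η 1 (tw η i z) ∈ uniSub η u z
      rw [tw_tw]
      exact Subgroup.subset_closure (Or.inr ⟨_, rfl⟩)
  exact this hx

theorem bound : Finite ↥(uniSub η u z) ∧ Nat.card ↥(uniSub η u z) ≤ q ^ 3 := by
  classical
  obtain ⟨hz, hzfin, hzcard⟩ := B.zline
  set Z := lineSub η f z with hZ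
  set M := Subgroup.normalizer (Z : Set P) with hM
  have hηM : η ∈ M := B.mem_normalizer fun x hx => by
    have : Z ≤ Z.comap (MulAut.conj (η ^ 1)).toMonoidHom := by
      refine lineSub_le fun i => ?_
      show tw η 1 (tw η i z) ∈ Z
      rw [tw_tw]; exact hz _
    exact this hx
  have hcen : ∀ x, (∀ j, Commute x (tw η j z)) → x ∈ M := by
    intro x hx
    have hC : Z ≤ Subgroup.centralizer {x} :=
      lineSub_le fun j => Subgroup.mem_centralizer_singleton_iff.mpr (hx j).eq.symm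
    rw [hM, Subgroup.mem_normalizer_iff]
    intro y
    constructor
    · intro hy
      have := Subgroup.mem_centralizer_singleton_iff.mp (hC hy)
      rwa [show x * y * x⁻¹ = y by rw [← this]; group]
    · intro hy
      have := Subgroup.mem_centralizer_singleton_iff.mp (hC hy)
      have e : y = x * y * x⁻¹ := by
        calc y = x⁻¹ * (x * y * x⁻¹ * x) := by group
          _ = x⁻¹ * (x * (x * y * x⁻¹)) := by rw [this]
          _ = _ := by group
      rw [e]; exact hy
  have huM : u ∈ M := hcen u B.uz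
  have hzM : z ∈ M := Subgroup.le_normalizer (by simpa [tw_zero] using hz 0)
  let ηn : M := ⟨η, hηM⟩
  let un : M := ⟨u, huM⟩
  let zn : M := ⟨z, hzM⟩
  let Zn : Subgroup M := Z.subgroupOf M
  have hZn : Zn.Normal := Subgroup.normal_in_normalizer
  let π : M →* M ⧸ Zn := QuotientGroup.mk' Zn
  have hπ : ∀ y : M, (y : P) ∈ Z → π y = 1 := fun y hy => (QuotientGroup.eq_one_iff y).mpr hy
  have hcomm : ∀ y y' : M, ⁅(y : P), (y' : P)⁆ ∈ Z → Commute (π y) (π y') := fun y y' h => by
    rw [← commutatorElement_eq_one_iff_commute, ← map_commutatorElement]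
    exact hπ _ h
  set a := π (ηn ^ (q + 1)) with ha
  set b := π ((ηn ^ (q + 1)) ^ m) with hb
  set c := π ηn with hc
  set x := π un with hx
  set y := tw c 1 x with hy
  have hac : Commute a c := ((Commute.refl ηn).pow_left (q + 1)).map π
  have hab : Commute a b := ((Commute.refl (ηn ^ (q + 1))).pow_right m).map π
  have hbc : Commute b c := (((Commute.refl ηn).pow_left (q + 1)).pow_left m).map π
  have htw : ∀ (γ : M) (i : ℕ) (v : M), tw (π γ) i (π v) = π (tw γ i v) :=
    fun γ i v => (tw_map π γ i v).symm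
  have hcoe : ∀ (γ : M) (i : ℕ) (v : M), ((tw γ i v : M) : P) = tw (γ : P) i (v : P) :=
    fun γ i v => tw_map M.subtype γ i v
  have hsupM : ∀ (d : ℕ) (v : M), ∀ g ∈ lineSub ((η : P) ^ (q + 1)) d (v : P),
      ∃ h : M, (h : P) = g ∧ π h ∈ lineSub a d (π v) := by
    intro d v g hg
    have : lineSub ((η : P) ^ (q + 1)) d (v : P) ≤
        ((lineSub a d (π v)).comap π).map M.subtype := by
      refine (Subgroup.closure_le _).mpr ?_
      rintro _ ⟨i, hi, rfl⟩
      refine ⟨tw (ηn ^ (q + 1)) i v, ?_, hcoe _ _ _⟩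
      show π (tw (ηn ^ (q + 1)) i v) ∈ lineSub a d (π v)
      rw [← htw, ← ha]
      exact tw_mem_lineSub hi
    obtain ⟨h, hh, rfl⟩ := this hg
    exact ⟨h, rfl, hh⟩
  -- the line of `x`
  have hxp : x ^ p = 1 := by rw [hx, ← map_pow]; exact hπ _ B.up
  have hx1 : Commute x (tw a 1 x) := by
    rw [hx, ha, htw]
    refine hcomm _ _ ?_
    rw [hcoe]
    exact B.ucomm
  have hmx : Mult a b x := by
    rcases B.umult with h | ⟨k, h⟩
    · refine Or.inl ⟨hab, ?_⟩
      have := hπ (((ηn ^ (q + 1)) ^ m * un * ((ηn ^ (q + 1)) ^ m)⁻¹) *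
        (un * tw (ηn ^ (q + 1)) 1 un)⁻¹) (by
          simp only [Subgroup.coe_mul, Subgroup.coe_inv, SubgroupClass.coe_pow, hcoe]; exact h)
      rw [map_mul, map_inv, mul_inv_eq_one, map_mul, map_mul, map_mul, map_inv, ← htw] at this
      exact this
    · refine Or.inr ⟨(k : ℤ), ?_⟩
      have := hπ (tw (ηn ^ (q + 1)) 1 un * (un ^ k)⁻¹) (by
        simp only [Subgroup.coe_mul, Subgroup.coe_inv, SubgroupClass.coe_pow, hcoe]; exact h)
      rw [map_mul, map_inv, mul_inv_eq_one, map_pow, ← htw] at this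
      show x ^ (k : ℤ) = tw a 1 x
      rw [zpow_natCast]
      exact this.symm
  have hdx : ∃ d ≤ f, tw a d x ∈ lineSub a d x := by
    obtain ⟨d, hd, h⟩ := B.upoly
    refine ⟨d, hd, ?_⟩
    have hle : lineSub (η ^ (q + 1)) d u ⊔ Z ≤ ((lineSub a d x).comap π).map M.subtype := by
      refine sup_le (fun g hg => ?_) (fun g hg => ?_)
      · obtain ⟨h, e, hh⟩ := hsupM d un g hg
        exact ⟨h, hh, e⟩
      · exact ⟨⟨g, Subgroup.le_normalizer hg⟩, Subgroup.mem_comap.mpr (by rw [hπ _ hg]; exact one_mem _), rfl⟩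
    obtain ⟨h', hh', e⟩ := hle h
    have e' : h' = tw (ηn ^ (q + 1)) d un := Subtype.ext (by rw [hcoe]; exact e)
    rw [ha, hx, htw, ← e']
    exact hh'
  -- the line of `y`
  have conjc : ∀ i v, c * tw a i v * c⁻¹ = tw a i (c * v * c⁻¹) := fun i v => tw_comm hac i v
  have ey : y = c * x * c⁻¹ := tw_one c x
  have hyp : y ^ p = 1 := by rw [hy, ← tw_pow, hxp]; simp [tw]
  have hy1 : Commute y (tw a 1 y) := by
    have := hx1.map (MulAut.conj c).toMonoidHom
    simp only [MulEquiv.coe_toMonoidHom, MulAut.conj_apply] at this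
    rw [conjc, ← ey] at this
    exact this
  have hmy : Mult a b y := by
    rcases hmx with ⟨-, h⟩ | h
    · refine Or.inl ⟨hab, ?_⟩
      have := congrArg (fun t => c * t * c⁻¹) h
      calc b * y * b⁻¹ = (b * c) * x * (b * c)⁻¹ := by rw [ey]; group
        _ = c * (b * x * b⁻¹) * c⁻¹ := by rw [hbc.eq]; group
        _ = (c * x * c⁻¹) * (c * tw a 1 x * c⁻¹) := by rw [h]; group
        _ = _ := by rw [conjc, ← ey]
    · refine Or.inr ?_
      obtain ⟨k, hk⟩ := h
      refine ⟨k, ?_⟩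
      show y ^ k = tw a 1 y
      rw [ey, ← conjc, ← hk]
      exact (map_zpow (MulAut.conj c).toMonoidHom x k).symm
  have hdy : ∃ d ≤ f, tw a d y ∈ lineSub a d y := by
    obtain ⟨d, hd, h⟩ := hdx
    refine ⟨d, hd, ?_⟩
    have hle : lineSub a d x ≤ (lineSub a d y).comap (MulAut.conj c).toMonoidHom := by
      refine (Subgroup.closure_le _).mpr ?_
      rintro _ ⟨i, hi, rfl⟩
      show c * tw a i x * c⁻¹ ∈ lineSub a d y
      rw [conjc, ← ey]
      exact tw_mem_lineSub hi
    have := hle h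
    change c * tw a d x * c⁻¹ ∈ lineSub a d y at this
    rwa [conjc, ← ey] at this
  have hxy : ∀ i j, Commute (tw a i x) (tw a j y) := by
    have e0 : y = π (tw ηn 1 un) := by rw [hy, hc, hx, htw]
    refine cross (β := b) ?_ ?_ ?_ ?_
    · rcases hmx with ⟨-, h⟩ | h
      · rcases hmy with ⟨-, h'⟩ | h'
        · exact Or.inl ⟨hab, h, h'⟩
        · refine Or.inr ⟨?_, h'⟩
          obtain ⟨k, hk⟩ := h'
          refine ⟨k, ?_⟩
          show x ^ k = tw a 1 x
          have e1 : c * (x ^ k) * c⁻¹ = c * tw a 1 x * c⁻¹ := by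
            rw [conjc, ← ey, ← hk, ey]
            exact map_zpow (MulAut.conj c).toMonoidHom x k
          exact mul_left_cancel (mul_right_cancel e1)
      · rcases hmy with ⟨-, h'⟩ | h'
        · refine Or.inr ⟨h, ?_⟩
          obtain ⟨k, hk⟩ := h
          refine ⟨k, ?_⟩
          show y ^ k = tw a 1 y
          rw [ey, ← conjc, ← hk]
          exact (map_zpow (MulAut.conj c).toMonoidHom x k).symm
        · exact Or.inr ⟨h, h'⟩
    · rw [e0, hx]; exact hcomm _ _ (by rw [hcoe]; exact B.mut0)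
    · rw [e0, hx, ha, htw]; exact hcomm _ _ (by rw [hcoe, hcoe]; exact B.mut1)
    · rw [e0, hx, ha, htw]; exact hcomm _ _ (by rw [hcoe, hcoe]; exact B.mut1')
  obtain ⟨hLx, hLxfin, hLxcard⟩ := line_bound B.ppos hxp (self_commute hmx hx1) hdx
  obtain ⟨hLy, hLyfin, hLycard⟩ := line_bound B.ppos hyp (self_commute hmy hy1) hdy
  set Lx := lineSub a f x
  set Ly := lineSub a f y
  set L := Lx ⊔ Ly with hL
  have hcL : ∀ g ∈ Lx, ∀ g' ∈ Ly, Commute g g' := by
    intro g hg g' hg'
    have h1 : Lx ≤ Subgroup.centralizer (Ly : Set (M ⧸ Zn)) := by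
      refine lineSub_le fun i => ?_
      rw [Subgroup.mem_centralizer_iff]
      intro g'' hg''
      have h2 : Ly ≤ Subgroup.centralizer {tw a i x} :=
        lineSub_le fun j => Subgroup.mem_centralizer_singleton_iff.mpr (hxy i j).eq.symm
      exact Subgroup.mem_centralizer_singleton_iff.mp (h2 hg'')
    exact (Subgroup.mem_centralizer_iff.mp (h1 hg) g' hg').symm
  let Ψ : Lx × Ly →* M ⧸ Zn :=
    MonoidHom.noncommCoprod Lx.subtype Ly.subtype fun g g' => hcL _ g.2 _ g'.2
  have hΨ : ∀ gg, Ψ gg = (gg.1 : M ⧸ Zn) * gg.2 := fun gg => rfl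
  have hLle : L ≤ Ψ.range := sup_le
    (fun g hg => ⟨(⟨g, hg⟩, 1), by rw [hΨ]; exact mul_one g⟩)
    (fun g hg => ⟨(1, ⟨g, hg⟩), by rw [hΨ]; exact one_mul g⟩)
  have hΨfin : Finite Ψ.range := Finite.of_surjective _ Ψ.rangeRestrict_surjective
  have hLfin : Finite L := Finite.of_injective _ (Subgroup.inclusion_injective hLle)
  have hLcard : Nat.card L ≤ q ^ 2 := by
    refine (Nat.card_le_card_of_injective _ (Subgroup.inclusion_injective hLle)).trans ?_
    refine (Nat.card_le_card_of_surjective _ Ψ.rangeRestrict_surjective).trans ?_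
    rw [Nat.card_prod, pow_two, B.qeq]
    exact Nat.mul_le_mul hLxcard hLycard
  -- the line of the orbit
  have hsq : tw c 2 x ∈ L := by
    have hle : lineSub (η ^ (q + 1)) f u ⊔ lineSub (η ^ (q + 1)) f (tw η 1 u) ⊔ Z ≤
        (L.comap π).map M.subtype := by
      refine sup_le (sup_le (fun g hg => ?_) (fun g hg => ?_)) (fun g hg => ?_)
      · obtain ⟨h, e, hh⟩ := hsupM f un g hg
        exact ⟨h, Subgroup.mem_sup_left hh, e⟩
      · obtain ⟨h, e, hh⟩ := hsupM f (tw ηn 1 un) g (by rw [hcoe]; exact hg)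
        refine ⟨h, Subgroup.mem_sup_right ?_, e⟩
        rw [← htw] at hh
        exact hh
      · exact ⟨⟨g, Subgroup.le_normalizer hg⟩, Subgroup.mem_comap.mpr (by rw [hπ _ hg]; exact one_mem _), rfl⟩
    obtain ⟨h', hh', e⟩ := hle B.sq
    have e' : h' = tw ηn 2 un := Subtype.ext (by rw [hcoe]; exact e)
    rw [hc, hx, htw, ← e']
    exact hh'
  have haL : ∀ i, ∀ g ∈ L, tw a i g ∈ L := by
    intro i
    have : L ≤ L.comap (MulAut.conj (a ^ i)).toMonoidHom := by
      refine sup_le (lineSub_le fun j => ?_) (lineSub_le fun j => ?_) <;>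
        show tw a i (tw a j _) ∈ L <;> rw [tw_tw]
      · exact Subgroup.mem_sup_left (hLx _)
      · exact Subgroup.mem_sup_right (hLy _)
    exact fun g hg => this hg
  have hcL' : ∀ g ∈ L, tw c 1 g ∈ L := by
    have : L ≤ L.comap (MulAut.conj (c ^ 1)).toMonoidHom := by
      refine sup_le (lineSub_le fun j => ?_) (lineSub_le fun j => ?_) <;>
        show tw c 1 (tw a j _) ∈ L <;> rw [tw_one, conjc, ← tw_one]
      · exact Subgroup.mem_sup_right (hLy j)
      · rw [hy, tw_tw]; exact haL j _ hsq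
    exact fun g hg => this hg
  have hxL : ∀ i, tw c i x ∈ L := by
    intro i
    induction i with
    | zero => rw [tw_zero]; exact Subgroup.mem_sup_left (by simpa [tw_zero] using hLx 0)
    | succ i ih => rw [add_comm, ← tw_tw]; exact hcL' _ ih
  -- assembling
  let K : Subgroup M := L.comap π
  have hle : uniSub η u z ≤ K.map M.subtype := by
    refine (Subgroup.closure_le _).mpr ?_
    rintro _ (⟨i, rfl⟩ | ⟨i, rfl⟩)
    · refine ⟨tw ηn i un, ?_, hcoe _ _ _⟩
      show π _ ∈ L
      rw [← htw]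
      exact hxL i
    · refine ⟨tw ηn i zn, ?_, hcoe _ _ _⟩
      show π _ ∈ L
      rw [hπ _ (by rw [hcoe]; exact hz i)]
      exact one_mem _
  have hZnfin : Finite Zn :=
    Finite.of_equiv Z (Subgroup.subgroupOfEquivOfLe Subgroup.le_normalizer).symm.toEquiv
  let ψ : K →* L := π.subgroupComap L
  have hker : ψ.ker ≤ Zn.subgroupOf K := fun g hg =>
    (QuotientGroup.eq_one_iff (g : M)).mp (congrArg Subtype.val hg)
  have hkfin : Finite ψ.ker := by
    have : Finite (Zn.subgroupOf K) :=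
      Finite.of_injective (fun g : Zn.subgroupOf K => (⟨(g : K), g.2⟩ : Zn))
        (fun g g' h => Subtype.ext (Subtype.ext (congrArg (fun t : Zn => (t : M)) h)))
    exact Finite.of_injective _ (Subgroup.inclusion_injective hker)
  have hqfin : Finite (K ⧸ ψ.ker) :=
    Finite.of_injective _ (QuotientGroup.kerLift_injective ψ)
  have hKfin : Finite K := Finite.of_subgroup_quotient ψ.ker
  have hKcard : Nat.card K ≤ q ^ 3 := by
    rw [Subgroup.card_eq_card_quotient_mul_card_subgroup ψ.ker, pow_succ]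
    refine Nat.mul_le_mul ((Nat.card_le_card_of_injective _
      (QuotientGroup.kerLift_injective ψ)).trans hLcard) ?_
    refine (Nat.card_le_card_of_injective (fun g : ψ.ker => (⟨((g : K) : M), hker g.2⟩ : Zn))
      (fun g g' h => Subtype.ext (Subtype.ext (congrArg (fun t : Zn => (t : M)) h)))).trans ?_
    rw [Nat.card_congr (Subgroup.subgroupOfEquivOfLe Subgroup.le_normalizer).toEquiv]
    exact hzcard
  have e : Finite (K.map M.subtype) :=
    Finite.of_equiv K (K.equivMapOfInjective M.subtype M.subtype_injective).toEquiv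
  refine ⟨Finite.of_injective _ (Subgroup.inclusion_injective hle), ?_⟩
  refine (Nat.card_le_card_of_injective _ (Subgroup.inclusion_injective hle)).trans ?_
  rw [← Nat.card_congr (K.equivMapOfInjective M.subtype M.subtype_injective).toEquiv]
  exact hKcard

end BorelRel

end Cfsg.Agent.SUThreePres
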