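import Mathlib

/-!
# Groups of rank one given by their cells
-/

set_option autoImplicit false

namespace Cfsg.Agent.SUThreePres

variable {G : Type*} [Group G] {P : Type*} [Group P]

/-- The data of the target. -/
structure Split (UG HG : Subgroup G) (w : G) : Prop where
  norm : ∀ h ∈ HG, ∀ u ∈ UG, h * u * h⁻¹ ∈ UG
  inter : UG ⊓ HG = ⊥
  ww : w * w = 1
  out : ∀ x ∈ UG, ∀ h ∈ HG, ∀ y ∈ UG, x * h * w * y ≠ 1
  uniq : ∀ x ∈ UG, ∀ h ∈ HG, ∀ y ∈ UG, ∀ x' ∈ UG, ∀ h' ∈ HG, ∀ y' ∈ UG,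
    x * h * w * y = x' * h' * w * y' → y = y'

/-- The data upstairs. -/
structure Lifted (Φ : P →* G) (UP HP : Subgroup P) (W : P) (UG HG : Subgroup G) (w : G) : Prop where
  split : Split UG HG w
  mapU : UP.map Φ = UG
  mapH : HP.map Φ = HG
  injU : ∀ x ∈ UP, Φ x = 1 → x = 1
  injH : ∀ x ∈ HP, Φ x = 1 → x = 1
  mapW : Φ W = w
  norm : ∀ h ∈ HP, ∀ u ∈ UP, h * u * h⁻¹ ∈ UP
  ww : W * W = 1
  wh : ∀ h ∈ HP, W * h * W ∈ HP
  gen : UP ⊔ HP ⊔ Subgroup.zpowers W = ⊤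

/-- The relation at `x`: its `W`-conjugate lies in the big cell. -/
def Hua (UP HP : Subgroup P) (W : P) (x : P) : Prop :=
  ∃ a ∈ UP, ∃ b ∈ HP, ∃ c ∈ UP, W * x * W = a * b * W * c

namespace Lifted

variable {Φ : P →* G} {UP HP : Subgroup P} {W : P} {UG HG : Subgroup G} {w : G}
  (L : Lifted Φ UP HP W UG HG w)

include L

theorem map_mem_U {x : P} (h : x ∈ UP) : Φ x ∈ UG := L.mapU ▸ ⟨x, h, rfl⟩

theorem map_mem_H {x : P} (h : x ∈ HP) : Φ x ∈ HG := L.mapH ▸ ⟨x, h, rfl⟩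

theorem U_ext {x y : P} (hx : x ∈ UP) (hy : y ∈ UP) (h : Φ x = Φ y) : x = y :=
  mul_inv_eq_one.mp (L.injU _ (mul_mem hx (inv_mem hy)) (by rw [map_mul, map_inv, h, mul_inv_cancel]))

theorem swapW {b : P} (_hb : b ∈ HP) : W * b = (W * b * W) * W := by
  rw [mul_assoc (W * b), L.ww, mul_one]

theorem norm' {h u : P} (hh : h ∈ HP) (hu : u ∈ UP) : h⁻¹ * u * h ∈ UP := by
  simpa using L.norm h⁻¹ (inv_mem hh) u hu

theorem hua_conj {x h : P} (hx : Hua UP HP W x) (hh : h ∈ HP) : Hua UP HP W (h * x * h⁻¹) := by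
  obtain ⟨a, ha, b, hb, c, hc, e⟩ := hx
  have h1 : W * h * W ∈ HP := L.wh h hh
  set k := W * h * W with hk
  have h2 : W * k⁻¹ * W ∈ HP := L.wh _ (inv_mem h1)
  refine ⟨k * a * k⁻¹, L.norm _ h1 _ ha, k * b * (W * k⁻¹ * W), mul_mem (mul_mem h1 hb) h2,
    k * c * k⁻¹, L.norm _ h1 _ hc, ?_⟩
  have hW : W⁻¹ = W := inv_eq_of_mul_eq_one_right L.ww
  have e1 : W * (h * x * h⁻¹) * W = k * (W * x * W) * k⁻¹ := by
    simp only [hk, _root_.mul_inv_rev, hW]
    simp only [mul_assoc, mul_inv_cancel_left, inv_mul_cancel_left]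
    simp only [← mul_assoc W W, L.ww, one_mul]
  rw [e1, e]
  calc k * (a * b * W * c) * k⁻¹
      = k * a * k⁻¹ * (k * b) * (W * k⁻¹) * (k * c * k⁻¹) := by group
    _ = k * a * k⁻¹ * (k * b) * (W * k⁻¹ * W * W) * (k * c * k⁻¹) :=
      congrArg (fun t => k * a * k⁻¹ * (k * b) * t * (k * c * k⁻¹)) (L.swapW (inv_mem h1))
    _ = _ := by simp only [mul_assoc]

theorem hua_step {x z a b c a' b' c' : P} (ha : a ∈ UP) (hb : b ∈ HP) (hb' : b' ∈ HP) (hc' : c' ∈ UP)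
    (e : W * x * W = a * b * W * c) (e' : W * z * W = a' * b' * W * c')
    (hca : Hua UP HP W (c * a')) : Hua UP HP W (x * z) := by
  obtain ⟨A, hA, B, hB, C, hC, eA⟩ := hca
  set d := W * b' * W with hd
  have hd' : d ∈ HP := L.wh b' hb'
  have hd2 : W * d * W ∈ HP := L.wh d hd'
  refine ⟨a * (b * A * b⁻¹), mul_mem ha (L.norm _ hb _ hA), b * B * (W * d * W),
    mul_mem (mul_mem hb hB) hd2, d⁻¹ * C * d * c', mul_mem (L.norm' hd' hC) hc', ?_⟩
  have h1 : W * (x * z) * W = (W * x * W) * (W * z * W) := by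
    simp only [mul_assoc]
    rw [← mul_assoc W W, L.ww, one_mul]
  rw [h1, e, e']
  calc a * b * W * c * (a' * b' * W * c')
      = a * b * (W * (c * a') * W) * ((W⁻¹) * b' * W) * c' := by group
    _ = a * b * (A * B * W * C) * d * c' := by
      rw [eA, inv_eq_of_mul_eq_one_right L.ww]
    _ = a * (b * A * b⁻¹) * (b * B) * (W * d) * (d⁻¹ * C * d * c') := by group
    _ = a * (b * A * b⁻¹) * (b * B) * (W * d * W * W) * (d⁻¹ * C * d * c') :=
      congrArg (fun t => a * (b * A * b⁻¹) * (b * B) * t * (d⁻¹ * C * d * c')) (L.swapW hd')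
    _ = _ := by simp only [mul_assoc]

theorem injective (hua : ∀ x ∈ UP, x ≠ 1 → Hua UP HP W x) : Function.Injective Φ := by
  let S : Set P := {p | (∃ a ∈ UP, ∃ b ∈ HP, p = a * b) ∨
    ∃ a ∈ UP, ∃ b ∈ HP, ∃ c ∈ UP, p = a * b * W * c}
  have hS : ∀ y ∈ UP ⊔ HP ⊔ Subgroup.zpowers W, y ∈ S := by
    have hU : ∀ p ∈ S, ∀ u ∈ UP, p * u ∈ S := by
      rintro p (⟨a, ha, b, hb, rfl⟩ | ⟨a, ha, b, hb, c, hc, rfl⟩) u hu
      · exact Or.inl ⟨a * (b * u * b⁻¹), mul_mem ha (L.norm _ hb _ hu), b, hb, by group⟩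
      · exact Or.inr ⟨a, ha, b, hb, c * u, mul_mem hc hu, by group⟩
    have hH : ∀ p ∈ S, ∀ k ∈ HP, p * k ∈ S := by
      rintro p (⟨a, ha, b, hb, rfl⟩ | ⟨a, ha, b, hb, c, hc, rfl⟩) k hk
      · exact Or.inl ⟨a, ha, b * k, mul_mem hb hk, by group⟩
      · refine Or.inr ⟨a, ha, b * (W * k * W), mul_mem hb (L.wh k hk), k⁻¹ * c * k, L.norm' hk hc, ?_⟩
        calc a * b * W * c * k = a * b * (W * k) * (k⁻¹ * c * k) := by group
          _ = a * b * (W * k * W * W) * (k⁻¹ * c * k) :=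
            congrArg (fun t => a * b * t * (k⁻¹ * c * k)) (L.swapW hk)
          _ = _ := by simp only [mul_assoc]
    have hW : ∀ p ∈ S, p * W ∈ S := by
      rintro p (⟨a, ha, b, hb, rfl⟩ | ⟨a, ha, b, hb, c, hc, rfl⟩)
      · exact Or.inr ⟨a, ha, b, hb, 1, one_mem _, by group⟩
      · by_cases hc1 : c = 1
        · refine Or.inl ⟨a, ha, b, hb, ?_⟩
          rw [hc1, mul_one, mul_assoc, L.ww, mul_one]
        · obtain ⟨A, hA, B, hB, C, hC, e⟩ := hua c hc hc1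
          refine Or.inr ⟨a * (b * A * b⁻¹), mul_mem ha (L.norm _ hb _ hA), b * B, mul_mem hb hB,
            C, hC, ?_⟩
          calc a * b * W * c * W = a * b * (W * c * W) := by group
            _ = _ := by rw [e]; group
    intro y hy
    have hy' : y ∈ Subgroup.closure ((UP : Set P) ∪ HP ∪ {W}) := by
      rw [Subgroup.closure_union, Subgroup.closure_union, Subgroup.closure_eq, Subgroup.closure_eq,
        ← Subgroup.zpowers_eq_closure]
      exact hy
    clear hy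
    suffices ∀ p ∈ S, p * y ∈ S by
      simpa using this 1 (Or.inl ⟨1, one_mem _, 1, one_mem _, (mul_one 1).symm⟩)
    induction hy' using Subgroup.closure_induction_left with
    | one => intro p hp; rwa [mul_one]
    | mul_left g hg y _ ih =>
      intro p hp
      rw [← mul_assoc]
      refine ih _ ?_
      rcases hg with (hg | hg) | hg
      · exact hU p hp g hg
      · exact hH p hp g hg
      · rw [Set.mem_singleton_iff.mp hg]; exact hW p hp
    | inv_mul_cancel g hg y _ ih =>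
      intro p hp
      rw [← mul_assoc]
      refine ih _ ?_
      rcases hg with (hg | hg) | hg
      · exact hU p hp _ (inv_mem hg)
      · exact hH p hp _ (inv_mem hg)
      · rw [Set.mem_singleton_iff.mp hg, inv_eq_of_mul_eq_one_right L.ww]; exact hW p hp
  rw [injective_iff_map_eq_one]
  intro p hp
  rcases hS p (by rw [L.gen]; exact Subgroup.mem_top p) with ⟨a, ha, b, hb, rfl⟩ |
    ⟨a, ha, b, hb, c, hc, rfl⟩
  · have h0 : Φ a = (Φ b)⁻¹ := eq_inv_of_mul_eq_one_left (by rw [← map_mul]; exact hp)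
    have h1 : Φ a ∈ UG ⊓ HG :=
      Subgroup.mem_inf.mpr ⟨L.map_mem_U ha, h0 ▸ HG.inv_mem (L.map_mem_H hb)⟩
    rw [L.split.inter, Subgroup.mem_bot] at h1
    rw [map_mul, h1, one_mul] at hp
    rw [L.injU a ha h1, L.injH b hb hp, one_mul]
  · exact absurd (by simpa only [map_mul, L.mapW] using hp)
      (L.split.out _ (L.map_mem_U ha) _ (L.map_mem_H hb) _ (L.map_mem_U hc))

end Lifted

end Cfsg.Agent.SUThreePres
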