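import Cfsg.Agent.SUThreePres.Gens

/-!
# The chosen elements of `SU(3, q)`
-/

set_option autoImplicit false

namespace Cfsg.Agent.SUThreePres

open Matrix Classical.Herm Cfsg.Agent.AutPSU Cfsg.Agent.MinIndexPSU3

open scoped commutatorElement

variable {q : ℕ} {F : Type*} [Field F] [Fintype F] {σ : F →+* F} (hu : UCtx σ q) {e m f : Vn 3 F}

/-- The facts about the chosen elements. -/
structure GData (h : Fr σ e m f) (η u z w : Su 3 F q) (p k M N : ℕ) : Prop where
  pr : p.Prime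
  weyl : IsW σ e m f w
  rel : BorelRel η u z p k q M N
  tor : (torHom hu h).range = Subgroup.zpowers η
  ord : orderOf η = N
  top : flagFix σ e ≤ Subgroup.closure (Set.range fun i => tw η i u)
  umem : u ∈ flagFix σ e
  zmem : z ∈ flagFix σ e
  zcard : Nat.card ↥(lineSub η k z) = q
  zfix : tw η (q - 1) z = z
  gen : 4 ≤ k → tw η 1 u ∈ Subgroup.closure (Set.range fun i => tw (η ^ (q - 1)) i u)
  seeds : ∃ (c0 ζ a0 b0 : F), c0 + σ c0 = 0 ∧ c0 ≠ 0 ∧ orderOf ζ = q + 1 ∧ ζ * σ ζ = 1 ∧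
    Adm σ a0 b0 ∧ a0 ≠ 0 ∧ σ b0 = -ζ * b0

include hu

theorem exists_prime_pow : ∃ p k : ℕ, p.Prime ∧ CharP F p ∧ q = p ^ k := by
  obtain ⟨p, hp⟩ := CharP.exists F
  obtain ⟨n, hpp, hn⟩ := FiniteField.card F p
  rw [SUGen.card_F hu] at hn
  obtain ⟨k, -, hk⟩ := (Nat.dvd_prime_pow hpp).mp (hn ▸ dvd_pow_self q two_ne_zero)
  exact ⟨p, k, hpp, hp, hk⟩

theorem proj_sup (h : Fr σ e m f) {S : Subgroup (Su 3 F q)} (hS : S ≤ flagFix σ e) {x : Su 3 F q}
    (hx : x ∈ S ⊔ cen hu h) : ∃ y ∈ S, cA σ m f y = cA σ m f x := by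
  let Q : Subgroup (Su 3 F q) :=
    (((S.subgroupOf (flagFix σ e)).map (cHom hu h)).comap (cHom hu h)).map
      (flagFix (q := q) σ e).subtype
  have hle : S ⊔ cen hu h ≤ Q := by
    refine sup_le (fun y hy => ⟨⟨y, hS hy⟩, ⟨⟨y, hS hy⟩, hy, rfl⟩, rfl⟩) ?_
    rintro y hy
    obtain ⟨hy1, hy2⟩ := (mem_cen hu h).1 hy
    refine ⟨⟨y, hy1⟩, ?_, rfl⟩
    show cHom hu h ⟨y, hy1⟩ ∈ (S.subgroupOf (flagFix σ e)).map (cHom hu h)
    rw [show cHom hu h ⟨y, hy1⟩ = 1 from congrArg Multiplicative.ofAdd hy2]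
    exact one_mem _
  obtain ⟨x', ⟨y, hy, hyx⟩, rfl⟩ := hle hx
  exact ⟨y, hy, congrArg Multiplicative.toAdd hyx⟩

theorem cen_pow (h : Fr σ e m f) {c : F} (hc : c + σ c = 0) (n : ℕ) :
    uE hu e m 0 c ^ n = uE hu e m 0 ((n : F) * c) := by
  induction n with
  | zero => rw [pow_zero, Nat.cast_zero, zero_mul, h.uE_zero hu]
  | succ n ih =>
    have hn : (n : F) * c + σ ((n : F) * c) = 0 := by
      rw [map_mul, map_natCast]; linear_combination (n : F) * hc
    rw [pow_succ, ih, (h.uE_mul hu (adm_zero.2 hn) (adm_zero.2 hc)).2]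
    congr 1
    · ring
    · push_cast; simp; ring

theorem closure_pow_all {x : F} (hx : Subfield.closure {x} = ⊤) {A : AddSubgroup F}
    (hA : ∀ i : ℕ, x ^ i ∈ A) (a : F) : a ∈ A := by
  classical
  let R := Subring.closure ({x} : Set F)
  let K : Subfield F := { R with
    inv_mem' := fun y hy => by
      by_cases hy0 : y = 0
      · rw [hy0, _root_.inv_zero]; exact R.zero_mem
      · have e : y⁻¹ = y ^ (Fintype.card F - 2) := by
          have hc : 1 < Fintype.card F := Fintype.one_lt_card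
          refine inv_eq_of_mul_eq_one_right ?_
          rw [← pow_succ', show Fintype.card F - 2 + 1 = Fintype.card F - 1 by omega,
            FiniteField.pow_card_sub_one_eq_one y hy0]
        rw [e]
        exact Subring.pow_mem R hy _ }
  have hK : Subfield.closure {x} ≤ K :=
    Subfield.closure_le.2 (Set.singleton_subset_iff.2 (Subring.subset_closure (Set.mem_singleton x)))
  have ha : a ∈ R := hK (by rw [hx]; exact Subfield.mem_top a)
  rw [Subring.mem_closure_iff] at ha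
  refine (AddSubgroup.closure_le (K := A)).2 ?_ ha
  intro y hy
  obtain ⟨i, rfl⟩ := Submonoid.mem_closure_singleton.1 hy
  exact hA i

theorem exists_gdata (h : Fr σ e m f) (hq : 3 ≤ q) :
    ∃ η u z w p k M N, GData hu h η u z w p k M N := by
  classical
  obtain ⟨p, k, hpp, hchar, hqk⟩ := exists_prime_pow hu
  have hfp : Fact p.Prime := ⟨hpp⟩
  obtain ⟨l, hl⟩ := IsCyclic.exists_generator (α := Fˣ)
  have hl0 : (l : F) ≠ 0 := l.ne_zero
  have hsl : σ (l : F) ≠ 0 := (map_ne_zero σ).2 hl0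
  have hlord : orderOf l = (q - 1) * (q + 1) := by
    rw [orderOf_eq_card_of_forall_mem_zpowers hl, Nat.card_units, AutPSU.card_F hu, mul_comm]
    simpa using Nat.sq_sub_sq q 1
  -- the scalars
  set g : F := (l : F) * σ l with hg
  have hgfix : σ g = g := by rw [hg, map_mul, hu.invol, mul_comm]
  have hgne : g ≠ 0 := mul_ne_zero hl0 hsl
  set ζ : F := (l : F) ^ (q - 1) with hζdef
  have hζ : orderOf ζ = q + 1 := by
    rw [hζdef, orderOf_pow' _ (by omega), orderOf_units, hlord, Nat.gcd_eq_right (dvd_mul_right _ _),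
      Nat.mul_div_cancel_left _ (by omega)]
  have hζ1 : ζ * σ ζ = 1 := by
    rw [hu.pow, ← pow_succ', hζdef, ← pow_mul, ← hlord, ← orderOf_units, pow_orderOf_eq_one]
  have hσζ : σ ζ = ζ⁻¹ := eq_inv_of_mul_eq_one_right hζ1
  have hζ0 : ζ ≠ 0 := left_ne_zero_of_mul_eq_one hζ1
  have hσl : σ (l : F) = ζ * l := by
    rw [hu.pow, hζdef, ← pow_succ, Nat.sub_add_cancel (by omega)]
  set lam : F := σ (l : F) * σ l / l with hlam
  have hlam' : lam = ζ ^ 2 * (l : F) := by rw [hlam, hσl]; field_simp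
  have hlamσ : σ lam ≠ lam := by
    intro hh
    rw [hlam', map_mul, map_pow, hσζ, hσl] at hh
    have h6 : ζ ^ 3 = 1 := by
      field_simp at hh
      linear_combination -hh
    have := Nat.le_of_dvd (by norm_num) (hζ ▸ orderOf_dvd_of_pow_eq_one h6)
    omega
  have hfixpow : ∀ r : F, σ r = r → r ≠ 0 → ∃ i : ℕ, r = g ^ i := by
    intro r hr hr0
    obtain ⟨c, hc⟩ := exists_unit_norm hu hr hr0
    obtain ⟨i, rfl⟩ := (mem_powers_iff_mem_zpowers (x := l)).2 (hl c)
    refine ⟨i, ?_⟩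
    rw [← hc, hg, mul_pow]
    show ((l ^ i : Fˣ) : F) * σ ((l ^ i : Fˣ) : F) = _
    rw [Units.val_pow_eq_pow_val, map_pow]
  obtain ⟨M, hM⟩ : ∃ M : ℕ, g ^ M = 1 + g ∨ ∃ n : ℕ, g = (n : F) := by
    by_cases hg1 : 1 + g = 0
    · refine ⟨0, Or.inr ⟨p - 1, ?_⟩⟩
      rw [Nat.cast_sub hpp.one_le, CharP.cast_eq_zero, Nat.cast_one]
      linear_combination hg1
    · obtain ⟨i, hi⟩ := hfixpow (1 + g) (by rw [map_add, map_one, hgfix]) hg1
      exact ⟨i, Or.inl hi.symm⟩
  -- the elements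
  obtain ⟨w, hw⟩ := exists_weyl hu h
  obtain ⟨c0, hc0', hc0⟩ := skew_exists hu
  have hζne : (1 : F) - ζ ≠ 0 := sub_ne_zero.2 fun h1 => by rw [← h1, orderOf_one] at hζ; omega
  set b0 : F := -1 / (1 - ζ) with hb0def
  have hb0 : b0 * (1 - ζ) = -1 := div_mul_cancel₀ _ hζne
  have hb0v : σ b0 = -ζ * b0 := by
    have e1 : σ b0 * (1 - ζ⁻¹) = -1 := by
      have := congrArg σ hb0
      rwa [map_mul, map_sub, map_neg, map_one, hσζ] at this
    have hne : (1 : F) - ζ⁻¹ ≠ 0 := sub_ne_zero.2 fun h1 => hζne (by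
      rw [← inv_inv ζ, ← h1, inv_one, sub_self])
    refine mul_right_cancel₀ hne ?_
    rw [e1]
    linear_combination -hb0 - b0 * mul_inv_cancel₀ hζ0
  have hb0a : Adm σ (1 : F) b0 := by
    show b0 + σ b0 = -(σ 1 * 1)
    rw [hb0v, map_one, mul_one]; linear_combination hb0
  set η := torHom hu h l with hη
  set u := uE hu e m (1 : F) b0 with hudef
  set z := uE hu e m (0 : F) c0 with hzdef
  have huflag : u ∈ flagFix σ e := h.uE_mem hu hb0a
  have huA : cA σ m f u = 1 := cA_uE hu h hb0a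
  have hzcen : z ∈ cen hu h := (mem_cen_iff hu h).2 ⟨c0, hc0, rfl⟩
  have hzi : ∀ i, tw η i z = uE hu e m 0 (g ^ i * c0) := fun i => by
    rw [hη, hzdef, (tw_uE hu h l i (adm_zero.2 hc0)).2, mul_zero, ← hg]
  -- the centre
  have hcq : Nat.card (cen hu h) = p ^ k := (card_cen hu h).trans hqk
  have hzchain : ∃ d ≤ k, tw η d z ∈ lineSub η d z ⊔ ⊥ :=
    exists_chain hpp hcq bot_le (by rw [hcq, Subgroup.card_bot, one_mul])
      fun i => tw_cen hu h l i hzcen
  obtain ⟨dz, hdz, hdz'⟩ := hzchain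
  have hzall : ∀ i, tw η i z ∈ lineSub η k z := fun i => lineSub_mono η z hdz (by
    have := mem_of_tw_chain (C := ⊥) (fun c hc => by
      rw [Subgroup.mem_bot.1 hc]; simp [tw]) hdz' i
    rwa [sup_bot_eq] at this)
  have hZ : lineSub η k z = cen hu h := by
    refine le_antisymm (lineSub_le fun i => tw_cen hu h l i hzcen) fun x hx => ?_
    obtain ⟨c, hc, rfl⟩ := (mem_cen_iff hu h).1 hx
    rcases eq_or_ne c 0 with rfl | hc'
    · rw [h.uE_zero hu]; exact one_mem _
    · have e1 : σ c0 = -c0 := by linear_combination hc0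
      obtain ⟨i, hi⟩ := hfixpow (c / c0) (by
        rw [map_div₀, e1, show σ c = -c by linear_combination hc, neg_div_neg_eq]) (div_ne_zero hc' hc0')
      have := hzall i
      rwa [hzi, ← hi, div_mul_cancel₀ _ hc0'] at this
  -- the lines
  set α := η ^ (q + 1) with hαdef
  have hα : α = torHom hu h (l ^ (q + 1)) := by rw [hαdef, hη, map_pow]
  have hlq : ((l ^ (q + 1) : Fˣ) : F) = g := by
    rw [Units.val_pow_eq_pow_val, pow_succ', ← hu.pow]
  have hαtw : ∀ i {x : Su 3 F q}, x ∈ flagFix σ e →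
      tw α i x ∈ flagFix σ e ∧ cA σ m f (tw α i x) = g ^ i * cA σ m f x := by
    intro i x hx
    have := tw_mem_flag hu h (l ^ (q + 1)) i hx
    rwa [← hα, hlq, hgfix, mul_div_assoc, div_self hgne, mul_one] at this
  have hηtw : ∀ i {x : Su 3 F q}, x ∈ flagFix σ e →
      tw η i x ∈ flagFix σ e ∧ cA σ m f (tw η i x) = lam ^ i * cA σ m f x :=
    fun i x hx => tw_mem_flag hu h l i hx
  have hlineflag : ∀ {x : Su 3 F q}, x ∈ flagFix σ e → lineSub α k x ≤ flagFix σ e :=
    fun hx => lineSub_le fun i => (hαtw i hx).1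
  -- the subgroup over the fixed field
  let Tu : Subgroup (Su 3 F q) :=
    (Subgroup.comap (cHom hu h) (AddSubgroup.toSubgroup (fixField σ).toAddSubgroup)).map
      (flagFix (q := q) σ e).subtype
  have hTu : ∀ x, x ∈ Tu ↔ x ∈ flagFix σ e ∧ σ (cA σ m f x) = cA σ m f x := by
    intro x
    constructor
    · rintro ⟨⟨y, hy⟩, hy', rfl⟩
      exact ⟨hy, hy'⟩
    · rintro ⟨hx, hx'⟩
      exact ⟨⟨x, hx⟩, hx', rfl⟩
  have hTle : Tu ≤ flagFix σ e := fun x hx => ((hTu x).1 hx).1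
  obtain ⟨nT, hnT⟩ : ∃ n, Nat.card Tu = p ^ n := by
    have hd0 := Subgroup.card_dvd_of_le hTle
    rw [card_flag hu h] at hd0
    have hd : Nat.card Tu ∣ p ^ (k * 3) := hd0.trans (dvd_of_eq (by rw [pow_mul, ← hqk]))
    obtain ⟨n, -, hn⟩ := (Nat.dvd_prime_pow hpp).1 hd
    exact ⟨n, hn⟩
  have hcT : cen hu h ≤ Tu := fun x hx => by
    obtain ⟨h1, h2⟩ := (mem_cen hu h).1 hx
    exact (hTu x).2 ⟨h1, by rw [h2, map_zero]⟩
  have hTcard : Nat.card Tu ≤ Nat.card (cen hu h) * p ^ k := by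
    have hsec : ∀ r : F, ∃ y : Su 3 F q, y ∈ flagFix σ e ∧ cA σ m f y = r := fun r => by
      obtain ⟨b, hb⟩ := exists_adm hu r
      exact ⟨uE hu e m r b, h.uE_mem hu hb, cA_uE hu h hb⟩
    choose sec hsec1 hsec2 using hsec
    let Φ : Tu → cen hu h × fixField σ := fun x =>
      (⟨(sec (cA σ m f x.1))⁻¹ * x.1, (mem_cen hu h).2 ⟨mul_mem (inv_mem (hsec1 _)) (hTle x.2), by
        rw [cA_mul hu h (inv_mem (hsec1 _)) (hTle x.2), cA_inv hu h (hsec1 _), hsec2, neg_add_cancel]⟩⟩,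
      ⟨cA σ m f x.1, ((hTu _).1 x.2).2⟩)
    refine (Nat.card_le_card_of_injective Φ fun x y hxy => ?_).trans ?_
    · have e1 : (sec (cA σ m f x.1))⁻¹ * x.1 = (sec (cA σ m f y.1))⁻¹ * y.1 :=
        congrArg (fun t : cen hu h × fixField σ => (t.1 : Su 3 F q)) hxy
      have e2 : cA σ m f x.1 = cA σ m f y.1 :=
        congrArg (fun t : cen hu h × fixField σ => (t.2 : F)) hxy
      rw [e2] at e1
      exact Subtype.ext (mul_left_cancel e1)
    · rw [Nat.card_prod, hu.card_fix, ← hqk]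
  have huT : ∀ i, tw α i u ∈ Tu := fun i => (hTu _).2 ⟨(hαtw i huflag).1, by
    rw [(hαtw i huflag).2, huA, mul_one, map_pow, hgfix]⟩
  obtain ⟨du, hdu, hdu'⟩ := exists_chain hpp hnT hcT hTcard huT
  have hline : ∀ r : F, σ r = r → ∃ y ∈ lineSub α k u, cA σ m f y = r := by
    intro r hr
    rcases eq_or_ne r 0 with rfl | hr0
    · exact ⟨1, one_mem _, by
        have := congrArg Multiplicative.toAdd (map_one (cHom hu h))
        simpa [cHom] using this⟩
    · obtain ⟨i, rfl⟩ := hfixpow r hr hr0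
      have h1 := mem_of_tw_chain (C := cen hu h) (fun c hc => by
        rw [hα]; exact tw_cen hu h _ 1 hc) hdu' i
      obtain ⟨y, hy, hye⟩ := proj_sup hu h (fun y hy => hlineflag huflag
        (lineSub_mono α u hdu hy)) h1
      exact ⟨y, lineSub_mono α u hdu hy, by rw [hye, (hαtw i huflag).2, huA, mul_one]⟩
  set u' := tw η 1 u with hu'def
  have hu'flag : u' ∈ flagFix σ e := (hηtw 1 huflag).1
  have hcomm : Commute α η := (Commute.refl η).pow_left (q + 1)
  have hspan : ∀ a : F, ∃ y ∈ lineSub α k u ⊔ lineSub α k u', cA σ m f y = a := by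
    intro a
    have hne : lam - σ lam ≠ 0 := sub_ne_zero.2 (Ne.symm hlamσ)
    set s := (a - σ a) / (lam - σ lam) with hs
    have hsfix : σ s = s := by
      rw [hs, map_div₀, map_sub, map_sub, hu.invol, hu.invol, ← neg_sub a (σ a),
        ← neg_sub lam (σ lam), neg_div_neg_eq]
    have hs' : s * (lam - σ lam) = a - σ a := div_mul_cancel₀ _ hne
    obtain ⟨y, hy, hye⟩ := hline (a - s * lam) (by
      rw [map_sub, map_mul, hsfix]; linear_combination hs')
    obtain ⟨y', hy', hy'e⟩ := hline s hsfix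
    have hle : lineSub α k u ≤ (lineSub α k u').comap (MulAut.conj η).toMonoidHom := by
      refine (Subgroup.closure_le _).mpr ?_
      rintro _ ⟨i, hi, rfl⟩
      show η * tw α i u * η⁻¹ ∈ lineSub α k u'
      rw [tw_comm hcomm, hu'def, tw_one]
      exact tw_mem_lineSub hi
    have hy'' : tw η 1 y' ∈ lineSub α k u' := by rw [tw_one]; exact hle hy'
    have hy'f := hlineflag huflag hy'
    refine ⟨y * tw η 1 y', mul_mem (Subgroup.mem_sup_left hy) (Subgroup.mem_sup_right hy''), ?_⟩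
    rw [cA_mul hu h (hlineflag huflag hy) (hηtw 1 hy'f).1, hye, (hηtw 1 hy'f).2, hy'e, pow_one]
    ring
  have hzero : ∀ x ∈ flagFix σ e, cA σ m f x = 0 → x ∈ lineSub η k z := fun x hx h0 => by
    rw [hZ]; exact (mem_cen hu h).2 ⟨hx, h0⟩
  have hrel : BorelRel η u z p k q M ((q - 1) * (q + 1)) := by
    refine ⟨Nat.mul_pos (by omega) (by omega), hpp.pos, hqk, ?_, ?_, ?_, ?_, ?_, ?_, ?_, ?_, ?_,
      ?_, ?_, ?_, ?_, ?_⟩
    · rw [hη, ← map_pow, ← hlord, pow_orderOf_eq_one, map_one]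
    · rw [hzdef, cen_pow hu h hc0, CharP.cast_eq_zero, zero_mul, h.uE_zero hu]
    · rw [hzi, hzdef]
      have hc1 : g ^ 1 * c0 + σ (g ^ 1 * c0) = 0 := by
        rw [pow_one, map_mul, hgfix]; linear_combination g * hc0
      show _ * _ = _ * _
      rw [(h.uE_mul hu (adm_zero.2 hc0) (adm_zero.2 hc1)).2,
        (h.uE_mul hu (adm_zero.2 hc1) (adm_zero.2 hc0)).2]
      congr 1
      ring
    · rcases hM with hM | ⟨n, hn⟩
      · refine Or.inl ⟨(Commute.refl η).pow_right M, ?_⟩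
        have hc1 : g ^ 1 * c0 + σ (g ^ 1 * c0) = 0 := by
          rw [pow_one, map_mul, hgfix]; linear_combination g * hc0
        show tw η M z = z * tw η 1 z
        rw [hzi, hzi, hzdef, (h.uE_mul hu (adm_zero.2 hc0) (adm_zero.2 hc1)).2, hM]
        congr 1 <;> simp <;> ring
      · refine Or.inr ⟨(n : ℤ), ?_⟩
        show z ^ (n : ℤ) = tw η 1 z
        rw [zpow_natCast, hzdef, cen_pow hu h hc0, ← hn, ← hzdef, hzi, pow_one]
    · exact ⟨dz, hdz, by rwa [sup_bot_eq] at hdz'⟩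
    · intro i
      have hz' := tw_cen hu h l i hzcen
      obtain ⟨c, hc, hce⟩ := (mem_cen_iff hu h).1 hz'
      rw [hη, hce, hudef]
      show _ * _ = _ * _
      rw [(h.uE_mul hu hb0a (adm_zero.2 hc)).2, (h.uE_mul hu (adm_zero.2 hc) hb0a).2]
      congr 1 <;> simp <;> ring
    · refine hzero _ (pow_mem huflag p) ?_
      rw [cA_pow hu h huflag, CharP.cast_eq_zero, zero_mul]
    · refine hzero _ ?_ (cA_comm hu h huflag (hαtw 1 huflag).1)
      rw [commutatorElement_def]
      exact mul_mem (mul_mem (mul_mem huflag (hαtw 1 huflag).1) (inv_mem huflag))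
        (inv_mem (hαtw 1 huflag).1)
    · rcases hM with hM | ⟨n, hn⟩
      · refine Or.inl (hzero _ (mul_mem (hαtw M huflag).1 (inv_mem (mul_mem huflag (hαtw 1 huflag).1))) ?_)
        show cA σ m f (tw α M u * (u * tw α 1 u)⁻¹) = 0
        rw [cA_mul hu h (hαtw M huflag).1 (inv_mem (mul_mem huflag (hαtw 1 huflag).1)),
          cA_inv hu h (mul_mem huflag (hαtw 1 huflag).1), cA_mul hu h huflag (hαtw 1 huflag).1,
          (hαtw M huflag).2, (hαtw 1 huflag).2, huA, hM]
        ring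
      · refine Or.inr ⟨n, hzero _ (mul_mem (hαtw 1 huflag).1 (inv_mem (pow_mem huflag n))) ?_⟩
        rw [cA_mul hu h (hαtw 1 huflag).1 (inv_mem (pow_mem huflag n)),
          cA_inv hu h (pow_mem huflag n), cA_pow hu h huflag, (hαtw 1 huflag).2, huA, ← hn]
        ring
    · exact ⟨du, hdu, by rw [hZ]; exact hdu'⟩
    · refine hzero _ ?_ (cA_comm hu h huflag hu'flag)
      rw [commutatorElement_def]
      exact mul_mem (mul_mem (mul_mem huflag hu'flag) (inv_mem huflag)) (inv_mem hu'flag)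
    · refine hzero _ ?_ (cA_comm hu h huflag (hαtw 1 hu'flag).1)
      rw [commutatorElement_def]
      exact mul_mem (mul_mem (mul_mem huflag (hαtw 1 hu'flag).1) (inv_mem huflag))
        (inv_mem (hαtw 1 hu'flag).1)
    · refine hzero _ ?_ (cA_comm hu h (hαtw 1 huflag).1 hu'flag)
      rw [commutatorElement_def]
      exact mul_mem (mul_mem (mul_mem (hαtw 1 huflag).1 hu'flag) (inv_mem (hαtw 1 huflag).1))
        (inv_mem hu'flag)
    · obtain ⟨y, hy, hye⟩ := hspan (cA σ m f (tw η 2 u))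
      rw [hZ]
      exact mem_sup_cen hu h (sup_le (hlineflag huflag) (hlineflag hu'flag)) (hηtw 2 huflag).1 hy hye
  refine ⟨η, u, z, w, p, k, M, (q - 1) * (q + 1), hpp, hw, hrel, ?_, ?_, ?_, huflag,
    ((mem_cen hu h).1 hzcen).1, ?_, ?_, ?_, ⟨c0, ζ, 1, b0, hc0, hc0', hζ, hζ1, hb0a, one_ne_zero, hb0v⟩⟩
  · refine le_antisymm ?_ (Subgroup.zpowers_le.2 ⟨l, rfl⟩)
    rintro _ ⟨x, rfl⟩
    obtain ⟨i, rfl⟩ := hl x
    exact ⟨i, (map_zpow (torHom hu h) l i).symm⟩
  · rw [hη, orderOf_injective _ (torHom_injective hu h), hlord]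
  · refine flag_le_of_proj hu h ?_ fun a => ?_
    · refine (Subgroup.closure_le _).2 ?_
      rintro _ ⟨i, rfl⟩
      exact (hηtw i huflag).1
    · obtain ⟨y, hy, hye⟩ := hspan a
      refine ⟨y, ?_, hye⟩
      have hti : ∀ i, tw α i u = tw η ((q + 1) * i) u := fun i => by
        rw [hαdef]; simp only [tw, ← pow_mul]
      refine sup_le (lineSub_le fun i => ?_) (lineSub_le fun i => ?_) hy
      · rw [hti]; exact Subgroup.subset_closure ⟨_, rfl⟩
      · rw [hu'def, show tw α i (tw η 1 u) = tw η ((q + 1) * i + 1) u by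
          rw [← tw_tw]; simp only [hαdef, tw, ← pow_mul]]
        exact Subgroup.subset_closure ⟨_, rfl⟩
  · rw [hZ]; exact card_cen hu h
  · rw [hzi, hzdef]
    congr 1
    have h1 : g ^ (q - 1) = 1 := by
      refine mul_left_cancel₀ hgne ?_
      rw [mul_one, ← pow_succ', Nat.sub_add_cancel (by omega), ← hu.pow, hgfix]
    rw [h1, one_mul]
  · intro hk
    have hq16 : 16 ≤ q := by
      rw [hqk]
      calc (16 : ℕ) = 2 ^ 4 := rfl
        _ ≤ p ^ 4 := Nat.pow_le_pow_left hpp.two_le 4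
        _ ≤ p ^ k := Nat.pow_le_pow_right hpp.pos hk
    have hμ : Subfield.closure {ζ ^ 3} = (⊤ : Subfield F) := by
      refine SUGen.closure_eq_top hu (fun hh => ?_) fun r j hr hj hqr hfix => ?_
      · rw [map_pow, hσζ, inv_pow] at hh
        replace hh : ζ ^ (3 + 3) = 1 := by
          rw [pow_add]
          nth_rewrite 1 [← hh]
          exact inv_mul_cancel₀ (pow_ne_zero 3 hζ0)
        have := Nat.le_of_dvd (by norm_num) (hζ ▸ orderOf_dvd_of_pow_eq_one hh)
        omega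
      · have h1 : ζ ^ 3 * σ (ζ ^ 3) = 1 := by rw [map_pow, ← mul_pow, hζ1, one_pow]
        have h2 := SUGen.pow_succ_of_fixed hu h1 hqr hfix
        rw [← pow_mul] at h2
        have h3 := Nat.le_of_dvd (by omega) (hζ ▸ orderOf_dvd_of_pow_eq_one h2)
        have h4 : r ^ 3 ≤ q := hqr ▸ Nat.pow_le_pow_right (by omega) (by omega)
        have h5 : r ≤ 2 := by
          by_contra hr3
          have : r * 9 ≤ r ^ 3 := by
            rw [show r ^ 3 = r * (r * r) by ring]
            exact Nat.mul_le_mul_left r (Nat.mul_le_mul (by omega : 3 ≤ r) (by omega : 3 ≤ r))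
          omega
        omega
    set τ := η ^ (q - 1) with hτ
    have hτtor : τ = torHom hu h (l ^ (q - 1)) := by rw [hτ, hη, map_pow]
    have hlτ : ((l ^ (q - 1) : Fˣ) : F) = ζ := by rw [Units.val_pow_eq_pow_val]
    have hτtw : ∀ i, tw τ i u ∈ flagFix σ e ∧ cA σ m f (tw τ i u) = ((ζ ^ 3)⁻¹) ^ i := by
      intro i
      have := tw_mem_flag hu h (l ^ (q - 1)) i huflag
      rw [← hτtor, hlτ, huA, mul_one, hσζ] at this
      refine ⟨this.1, this.2.trans ?_⟩
      congr 1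
      field_simp
    set S := Subgroup.closure (Set.range fun i => tw τ i u)
    have hS : S ≤ flagFix σ e := by
      refine (Subgroup.closure_le _).2 ?_
      rintro _ ⟨i, rfl⟩
      exact (hτtw i).1
    refine flag_le_of_proj hu h hS (fun a => ?_) hu'flag
    let A : AddSubgroup F :=
      { carrier := {a | ∃ x ∈ S, cA σ m f x = a}
        zero_mem' := ⟨1, one_mem _, by
          have := congrArg Multiplicative.toAdd (map_one (cHom hu h))
          simpa [cHom] using this⟩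
        add_mem' := by
          rintro _ _ ⟨x, hx, rfl⟩ ⟨y, hy, rfl⟩
          exact ⟨x * y, mul_mem hx hy, cA_mul hu h (hS hx) (hS hy)⟩
        neg_mem' := by
          rintro _ ⟨x, hx, rfl⟩
          exact ⟨x⁻¹, inv_mem hx, cA_inv hu h (hS hx)⟩ }
    have hinv : Subfield.closure {(ζ ^ 3)⁻¹} = (⊤ : Subfield F) := by
      refine top_le_iff.1 (hμ ▸ Subfield.closure_le.2 (Set.singleton_subset_iff.2 ?_))
      have := (Subfield.closure {(ζ ^ 3)⁻¹}).inv_mem (Subfield.subset_closure (Set.mem_singleton _))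
      rwa [inv_inv] at this
    exact closure_pow_all hu hinv (A := A) (fun i => ⟨tw τ i u, Subgroup.subset_closure ⟨i, rfl⟩,
      (hτtw i).2⟩) a

end Cfsg.Agent.SUThreePres
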