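import Cfsg.Agent.SUThreePres.Model

/-!
# All relations of rank one from four
-/

set_option autoImplicit false

namespace Cfsg.Agent.SUThreePres

open Matrix Classical.Herm Cfsg.Agent.AutPSU Cfsg.Agent.MinIndexPSU3

variable {q : ℕ} {F : Type*} [Field F] [Fintype F] {σ : F →+* F} (hu : UCtx σ q)
  {e m f : Vn 3 F}

include hu

theorem exists_unit_norm {r : F} (hr : σ r = r) (hr0 : r ≠ 0) :
    ∃ l : Fˣ, (l : F) * σ l = r := by
  obtain ⟨c, hc⟩ := exists_norm hu.toIsInvol hr
  exact ⟨Units.mk0 c (fun h => hr0 (by rw [← hc, h, zero_mul])), hc⟩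

theorem hua_all {P : Type*} [Group P] {Φ : P →* Su 3 F q} {UP HP : Subgroup P} {W : P}
    {w : Su 3 F q} (h : Fr σ e m f) (hw : IsW σ e m f w)
    (L : Lifted Φ UP HP W (flagFix σ e) (torHom hu h).range w)
    {c0 : F} (hc0 : c0 + σ c0 = 0) (hc0' : c0 ≠ 0)
    {ζ : F} (hζ : orderOf ζ = q + 1) (hζ1 : ζ * σ ζ = 1)
    {a0 b0 : F} (ha0 : Adm σ a0 b0) (ha0' : a0 ≠ 0) (hv0 : σ b0 = -ζ * b0)
    (hc : ∀ x ∈ UP, Φ x = uE hu e m 0 c0 → Hua UP HP W x)
    (hs : ∀ j < 3, ∀ x ∈ UP, Φ x = uE hu e m (ζ ^ j * a0) b0 → Hua UP HP W x) :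
    ∀ x ∈ UP, x ≠ 1 → Hua UP HP W x := by
  set Hu : F → F → Prop := fun a b => ∀ x ∈ UP, Φ x = uE hu e m a b → Hua UP HP W x with hHu
  have lift : ∀ {a b : F}, Adm σ a b → ∃ x ∈ UP, Φ x = uE hu e m a b := by
    intro a b hab
    have : uE hu e m a b ∈ UP.map Φ := by rw [L.mapU]; exact h.uE_mem hu hab
    obtain ⟨x, hx, hxe⟩ := this
    exact ⟨x, hx, hxe⟩
  have conj : ∀ {a b : F} (l : Fˣ), Adm σ a b → Hu a b →
      Hu (σ (l : F) * σ l / l * a) ((l : F) * σ l * b) := by
    intro a b l hab hh x hx hxe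
    have : torHom hu h l ∈ HP.map Φ := by rw [L.mapH]; exact ⟨l, rfl⟩
    obtain ⟨g, hg, hge⟩ := this
    have h1 := hh (g⁻¹ * x * g) (L.norm' hg hx) (by
      rw [map_mul, map_mul, map_inv, hge, hxe, ← (conj_uE hu h l hab).2]; group)
    have := L.hua_conj h1 hg
    rwa [show g * (g⁻¹ * x * g) * g⁻¹ = x by group] at this
  have yval : ∀ {a b : F}, Adm σ a b → ∀ x, Φ x = uE hu e m a b →
      ∀ A ∈ UP, ∀ B ∈ HP, ∀ C ∈ UP, W * x * W = A * B * W * C →
      b ≠ 0 ∧ Adm σ (-a / σ b) b⁻¹ ∧ Φ C = uE hu e m (-a / σ b) b⁻¹ := by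
    intro a b hab x hxe A hA B hB C hC heq
    obtain ⟨l, hl⟩ := L.map_mem_H hB
    have h1 := congrArg Φ heq
    simp only [map_mul, L.mapW, hxe, ← hl] at h1
    exact ypart hu h hw hab (L.map_mem_U hA) l (L.map_mem_U hC) h1
  have central : ∀ c : F, c + σ c = 0 → c ≠ 0 → Hu 0 c := by
    intro c hcc hc'
    have e1 : σ c0 = -c0 := by linear_combination hc0
    have e2 : σ c = -c := by linear_combination hcc
    have hr : σ (c / c0) = c / c0 := by rw [map_div₀, e1, e2, neg_div_neg_eq]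
    obtain ⟨l, hl⟩ := exists_unit_norm hu hr (div_ne_zero hc' hc0')
    have := conj l (adm_zero.2 hc0) hc
    rwa [mul_zero, hl, div_mul_cancel₀ _ hc0'] at this
  have hζ0 : ζ ≠ 0 := left_ne_zero_of_mul_eq_one hζ1
  have hb0 : b0 ≠ 0 := by
    intro hb
    have h1 : (0 : F) = -(σ a0 * a0) := by simpa [Adm, hb] using ha0
    exact mul_ne_zero ((map_ne_zero σ).2 ha0') ha0' (neg_eq_zero.1 h1.symm)
  have hq1 := hu.one_lt
  have seeds : ∀ {a b : F}, Adm σ a b → a ≠ 0 → σ b = -ζ * b → Hu a b := by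
    intro a b hab ha hv
    have hab' : b + σ b = -(σ a * a) := hab
    have ha0e : b0 + σ b0 = -(σ a0 * a0) := ha0
    have hb : b ≠ 0 := by
      intro hb
      have h1 : (0 : F) = -(σ a * a) := by simpa [hb] using hab'
      exact mul_ne_zero ((map_ne_zero σ).2 ha) ha (neg_eq_zero.1 h1.symm)
    have hr : σ (b / b0) = b / b0 := by
      rw [map_div₀, hv, hv0, mul_div_mul_left _ _ (neg_ne_zero.2 hζ0)]
    obtain ⟨l, hl⟩ := exists_unit_norm hu hr (div_ne_zero hb hb0)
    set lam := σ (l : F) * σ l / l with hlam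
    have hlam0 : lam ≠ 0 := div_ne_zero (mul_ne_zero ((map_ne_zero σ).2 l.ne_zero)
      ((map_ne_zero σ).2 l.ne_zero)) l.ne_zero
    have hnlam : σ lam * lam = b / b0 := by
      rw [← hl, hlam, map_div₀, map_mul, hu.invol]
      have := (map_ne_zero σ).2 l.ne_zero
      field_simp
    set ρ := a / (lam * a0) with hρ
    have hρ1 : ρ * σ ρ = 1 := by
      have e1 : σ a * a = b / b0 * (σ a0 * a0) := by
        rw [eq_comm, div_mul_eq_mul_div, div_eq_iff hb0]
        linear_combination (b) * ha0e - b0 * hab' - b * hv0 + b0 * hv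
      rw [hρ, map_div₀, map_mul, div_mul_div_comm, div_eq_one_iff_eq (by
        exact mul_ne_zero (mul_ne_zero hlam0 ha0') (mul_ne_zero ((map_ne_zero σ).2 hlam0)
          ((map_ne_zero σ).2 ha0')))]
      linear_combination e1 - (σ a0 * a0) * hnlam
    have : NeZero (q + 1) := ⟨by omega⟩
    obtain ⟨i, -, hi⟩ := (hζ ▸ IsPrimitiveRoot.orderOf ζ).eq_pow_of_pow_eq_one (ξ := ρ) (by
      rw [pow_succ', ← hu.pow]; exact hρ1)
    let ζu : Fˣ := Units.mk0 (σ ζ) ((map_ne_zero σ).2 hζ0)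
    have hk : ∀ k : ℕ, Hu (ζ ^ (i % 3 + 3 * k) * a0) b0 := by
      intro k
      induction k with
      | zero => exact fun x hx hxe => hs _ (Nat.mod_lt _ (by norm_num)) x hx (by simpa using hxe)
      | succ k ih =>
        have hadm : Adm σ (ζ ^ (i % 3 + 3 * k) * a0) b0 := by
          show b0 + σ b0 = _
          rw [ha0e, map_mul, map_pow]
          have : σ ζ ^ (i % 3 + 3 * k) * ζ ^ (i % 3 + 3 * k) = 1 := by
            rw [← mul_pow, mul_comm (σ ζ), hζ1, one_pow]
          linear_combination (σ a0 * a0) * this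
        have := conj ζu hadm ih
        simp only [ζu, Units.val_mk0, hu.invol, mul_comm (σ ζ) ζ, hζ1, one_mul] at this
        convert this using 1
        rw [show i % 3 + 3 * (k + 1) = i % 3 + 3 * k + 3 by ring, pow_add]
        have e : σ ζ = ζ⁻¹ := eq_inv_of_mul_eq_one_right hζ1
        rw [e, div_inv_eq_mul]
        ring
    have hki := hk (i / 3)
    rw [Nat.mod_add_div] at hki
    have hadm : Adm σ (ζ ^ i * a0) b0 := by
      show b0 + σ b0 = _
      rw [ha0e, hi, map_mul]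
      linear_combination (σ a0 * a0) * hρ1
    have := conj l hadm hki
    rw [← hlam, hi, hl, div_mul_cancel₀ _ hb0] at this
    rwa [show lam * (ρ * a0) = a by rw [hρ]; field_simp] at this
  have all : ∀ i : ℕ, ∀ {a b : F}, Adm σ a b → a ≠ 0 → σ b = -ζ ^ (i + 1) * b → Hu a b := by
    intro i
    induction i with
    | zero => intro a b hab ha hv; exact seeds hab ha (by simpa using hv)
    | succ i ih =>
      intro a b hab ha hv x hx hxe
      have hab' : b + σ b = -(σ a * a) := hab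
      have hζ' : (1 : F) - ζ ≠ 0 := sub_ne_zero.2 fun h1 => by
        rw [← h1, orderOf_one] at hζ; omega
      set b1 := -(σ a * a) / (1 - ζ) with hb1
      have hb1e : b1 * (1 - ζ) = -(σ a * a) := div_mul_cancel₀ _ hζ'
      have hσζ : σ ζ = ζ⁻¹ := eq_inv_of_mul_eq_one_right hζ1
      have hb1v : σ b1 = -ζ * b1 := by
        have hζ'' : (1 : F) - ζ⁻¹ ≠ 0 := sub_ne_zero.2 fun h1 => hζ' (by
          rw [← inv_inv ζ, ← h1, inv_one, sub_self])
        rw [hb1, map_div₀, map_neg, map_mul, hu.invol, map_sub, map_one, hσζ, mul_div_assoc',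
          div_eq_div_iff hζ'' hζ']
        linear_combination (σ a * a) * mul_inv_cancel₀ hζ0
      have hadm1 : Adm σ a b1 := by
        show b1 + σ b1 = _
        rw [hb1v]; linear_combination hb1e
      have hs1 : Hu a b1 := seeds hadm1 ha hb1v
      by_cases hbb : b = b1
      · subst hbb; exact hs1 x hx hxe
      set c := b - b1 with hc_def
      have hc1 : c + σ c = 0 := by
        rw [hc_def, map_sub]
        have : b1 + σ b1 = -(σ a * a) := hadm1
        linear_combination hab' - this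
      have hc' : c ≠ 0 := sub_ne_zero.2 hbb
      have hc1i : σ c + σ (σ c) = 0 := by rw [hu.invol]; linear_combination hc1
      obtain ⟨x1, hx1, hx1e⟩ := lift hadm1
      obtain ⟨z, hz, hze⟩ := lift (adm_zero.2 hc1 : Adm σ 0 c)
      have hxz : x = x1 * z := L.U_ext hx (mul_mem hx1 hz) (by
        rw [map_mul, hx1e, hze, (h.uE_mul hu hadm1 (adm_zero.2 hc1)).2, hxe, hc_def]
        congr 1 <;> ring)
      subst hxz
      obtain ⟨A, hA, B, hB, C, hC, eC⟩ := hs1 x1 hx1 hx1e
      obtain ⟨A', hA', B', hB', C', hC', eA⟩ := central c hc1 hc' z hz hze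
      obtain ⟨hb1ne, hC1, hC2⟩ := yval hadm1 x1 hx1e A hA B hB C hC eC
      -- the first factor of the central relation
      have hW : W⁻¹ = W := inv_eq_of_mul_eq_one_right L.ww
      have eA' : W * z⁻¹ * W = C'⁻¹ * (W * B'⁻¹ * W) * W * A'⁻¹ := by
        have := congrArg (·⁻¹) eA
        simp only [_root_.mul_inv_rev, hW] at this
        simp only [mul_assoc] at this ⊢
        rw [this, ← mul_assoc W W A'⁻¹, L.ww, one_mul]
      have hzi : Φ z⁻¹ = uE hu e m 0 (σ c) := by
        rw [map_inv, hze, (uE_inv hu h (adm_zero.2 hc1)).2, neg_zero]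
      obtain ⟨-, hA1, hA2⟩ := yval (adm_zero.2 hc1i) z⁻¹ hzi _ (inv_mem hC') _
        (L.wh _ (inv_mem hB')) _ (inv_mem hA') eA'
      have hcs : (σ c)⁻¹ = -c⁻¹ := by rw [show σ c = -c by linear_combination hc1, inv_neg]
      rw [neg_zero, zero_div, hcs] at hA1 hA2
      have hA3 : Φ A' = uE hu e m 0 c⁻¹ := by
        have h3 := (uE_inv hu h hA1).2
        rw [← hA2, map_inv, inv_inv] at h3
        rw [h3, neg_zero, map_neg, map_inv₀, hcs, neg_neg]
      have hA4 : Adm σ 0 c⁻¹ := adm_zero.2 (by rw [map_inv₀, hcs]; ring)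
      refine L.hua_step hA hB hB' hC' eC eA ?_
      obtain ⟨hadm2, hprod⟩ := h.uE_mul hu hC1 hA4
      have hCA : Φ (C * A') = uE hu e m (-a / σ b1 + 0) (b1⁻¹ + c⁻¹ - σ (-a / σ b1) * 0) := by
        rw [map_mul, hC2, hA3, hprod]
      rw [add_zero, mul_zero, sub_zero] at hadm2 hCA
      have hsb1 : σ b1 ≠ 0 := (map_ne_zero σ).2 hb1ne
      refine ih hadm2 (div_ne_zero (neg_ne_zero.2 ha) hsb1) ?_ (C * A') (mul_mem hC hA') hCA
      rw [map_add, map_inv₀, map_inv₀, hcs, hb1v]
      have hbne : b = c + b1 := by rw [hc_def]; ring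
      have h2 : σ b = -ζ ^ (i + 1) * ζ * b := by rw [hv]; ring
      have key : σ c - ζ * b1 = -ζ ^ (i + 1) * ζ * (c + b1) := by
        rw [← hbne, ← h2, hbne, map_add, hb1v]; ring
      rw [show σ c = -c by linear_combination hc1] at key
      field_simp
      linear_combination key
  intro x hx hx1
  obtain ⟨a, b, hab, hxe⟩ := mem_flag hu h (L.map_mem_U hx)
  by_cases ha : a = 0
  · subst ha
    refine central b (adm_zero.1 hab) ?_ x hx hxe
    rintro rfl
    exact hx1 (L.injU x hx (by rw [hxe, h.uE_zero hu]))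
  · have hab' : b + σ b = -(σ a * a) := hab
    have hb : b ≠ 0 := by
      intro hb
      have h1 : (0 : F) = -(σ a * a) := by simpa [hb] using hab'
      exact mul_ne_zero ((map_ne_zero σ).2 ha) ha (neg_eq_zero.1 h1.symm)
    have hsb : σ b ≠ 0 := (map_ne_zero σ).2 hb
    have hv1 : -σ b / b * σ (-σ b / b) = 1 := by
      rw [map_div₀, map_neg, hu.invol]
      field_simp
    have : NeZero (q + 1) := ⟨by omega⟩
    obtain ⟨i, hiq, hi⟩ := (hζ ▸ IsPrimitiveRoot.orderOf ζ).eq_pow_of_pow_eq_one (ξ := -σ b / b) (by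
      rw [pow_succ', ← hu.pow]; exact hv1)
    have hbv : σ b = -ζ ^ i * b := by rw [hi]; field_simp
    rcases i with _ | i
    · exfalso
      rw [pow_zero] at hbv
      rw [hbv] at hab'
      exact mul_ne_zero ((map_ne_zero σ).2 ha) ha (by linear_combination hab')
    · exact all i hab ha hbv x hx hxe

end Cfsg.Agent.SUThreePres
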