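import Cfsg.Agent.SUThreePres.Borel
import Cfsg.Agent.SUThreePres.Derive
import Cfsg.Agent.SUGen.Field

/-!
# The relations in `SU(3, q)`
-/

set_option autoImplicit false

namespace Cfsg.Agent.SUThreePres

open Matrix Classical.Herm Cfsg.Agent.AutPSU Cfsg.Agent.MinIndexPSU3

open scoped commutatorElement

theorem mem_of_tw_chain {G : Type*} [Group G] {α x : G} {C : Subgroup G} {d : ℕ}
    (hC : ∀ c ∈ C, tw α 1 c ∈ C) (hd : tw α d x ∈ lineSub α d x ⊔ C) :
    ∀ i, tw α i x ∈ lineSub α d x ⊔ C := by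
  intro i
  induction i with
  | zero =>
    rcases Nat.eq_zero_or_pos d with h | h
    · subst h; exact hd
    · exact Subgroup.mem_sup_left (tw_mem_lineSub h)
  | succ i ih =>
    rw [add_comm, ← tw_tw]
    have hle : lineSub α d x ⊔ C ≤ (lineSub α d x ⊔ C).comap (MulAut.conj (α ^ 1)).toMonoidHom := by
      refine sup_le ((Subgroup.closure_le _).mpr ?_) fun c hc => Subgroup.mem_sup_right (hC c hc)
      rintro _ ⟨j, hj, rfl⟩
      show tw α 1 (tw α j x) ∈ lineSub α d x ⊔ C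
      rw [tw_tw]
      rcases eq_or_lt_of_le (show 1 + j ≤ d by simp only [Set.mem_setOf_eq] at hj; omega) with h | h
      · rw [h]; exact hd
      · exact Subgroup.mem_sup_left (tw_mem_lineSub h)
    exact hle ih

/-- In a `p`-group the chain of lines stops. -/
theorem exists_chain {G : Type*} [Group G] {p k n : ℕ} (hp : p.Prime) {α x : G} {T C : Subgroup G}
    (hT : Nat.card T = p ^ n) (hC : C ≤ T) (hTC : Nat.card T ≤ Nat.card C * p ^ k)
    (hx : ∀ i, tw α i x ∈ T) : ∃ d ≤ k, tw α d x ∈ lineSub α d x ⊔ C := by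
  by_contra hc
  push Not at hc
  have : Finite T := Nat.finite_of_card_ne_zero (by rw [hT]; exact pow_ne_zero _ hp.ne_zero)
  have hle : ∀ d, lineSub α d x ⊔ C ≤ T := fun d => sup_le (lineSub_le hx) hC
  have hgrow : ∀ d ≤ k + 1, Nat.card C * p ^ d ≤ Nat.card ↥(lineSub α d x ⊔ C) := by
    intro d
    induction d with
    | zero =>
      intro _
      have : Finite ↥(lineSub α 0 x ⊔ C) := Finite.of_injective _ (Subgroup.inclusion_injective (hle 0))
      rw [pow_zero, mul_one]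
      exact Nat.card_le_card_of_injective _ (Subgroup.inclusion_injective le_sup_right)
    | succ d ih =>
      intro hd
      set A := lineSub α d x ⊔ C
      set B := lineSub α (d + 1) x ⊔ C
      have hAB : A ≤ B := sup_le_sup_right (lineSub_mono α x (Nat.le_succ d)) C
      have h1 : Nat.card B = Nat.card A * A.relIndex B := by
        rw [← Subgroup.relIndex_bot_left A, ← Subgroup.relIndex_bot_left B,
          Subgroup.relIndex_mul_relIndex ⊥ A B bot_le hAB]
      have h2 : A.relIndex B ≠ 1 := fun h =>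
        hc d (by omega) (Subgroup.relIndex_eq_one.mp h
          (Subgroup.mem_sup_left (tw_mem_lineSub (Nat.lt_succ_self d))))
      have h3 : A.relIndex B ∣ p ^ n := hT ▸
        ((Dvd.intro_left _ h1.symm).trans (Subgroup.card_dvd_of_le (hle (d + 1))))
      obtain ⟨j, -, hj⟩ := (Nat.dvd_prime_pow hp).mp h3
      have hj0 : j ≠ 0 := fun h => h2 (by rw [hj, h, pow_zero])
      calc Nat.card C * p ^ (d + 1) = Nat.card C * p ^ d * p := by rw [pow_succ]; ring
        _ ≤ Nat.card A * p ^ j := Nat.mul_le_mul (ih (by omega)) (Nat.le_self_pow hj0 p)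
        _ = _ := by rw [h1, hj]
  have h1 := (hgrow (k + 1) le_rfl).trans
    (Nat.card_le_card_of_injective _ (Subgroup.inclusion_injective (hle (k + 1))))
  have h2 := h1.trans hTC
  have hC0 : 0 < Nat.card C := by
    have : Finite C := Finite.of_injective _ (Subgroup.inclusion_injective hC)
    exact Nat.card_pos
  rw [pow_succ, ← mul_assoc] at h2
  have hpos : 0 < Nat.card C * p ^ k := Nat.mul_pos hC0 (pow_pos hp.pos k)
  have := Nat.le_of_mul_le_mul_left (h2.trans (le_of_eq (mul_one _).symm)) hpos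
  exact absurd this (not_le.mpr hp.one_lt)

variable {q : ℕ} {F : Type*} [Field F] [Fintype F] {σ : F →+* F} (hu : UCtx σ q) {e m f : Vn 3 F}

/-- The coordinate of a unipotent element. -/
def cA (σ : F →+* F) (m f : Vn 3 F) (g : Su 3 F q) : F := hB 3 σ m (mat g *ᵥ f)

include hu

theorem cA_uE (h : Fr σ e m f) {a b : F} (ha : Adm σ a b) : cA σ m f (uE hu e m a b) = a := by
  obtain ⟨r1, r2, r3, r4, r5, r6, r7, r8, r9⟩ := h.relations hu
  rw [cA, h.uE_f hu ha]
  simp [r7, r8, r9]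

theorem cA_mul (h : Fr σ e m f) {x y : Su 3 F q} (hx : x ∈ flagFix σ e) (hy : y ∈ flagFix σ e) :
    cA σ m f (x * y) = cA σ m f x + cA σ m f y := by
  obtain ⟨a, b, ha, rfl⟩ := mem_flag hu h hx
  obtain ⟨a', b', ha', rfl⟩ := mem_flag hu h hy
  rw [(h.uE_mul hu ha ha').2, cA_uE hu h (h.uE_mul hu ha ha').1, cA_uE hu h ha, cA_uE hu h ha']

/-- The coordinate as a homomorphism. -/
noncomputable def cHom (h : Fr σ e m f) :
    ↥(flagFix (q := q) σ e) →* Multiplicative F :=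
  MonoidHom.mk' (fun g => Multiplicative.ofAdd (cA σ m f g.1)) fun g g' => by
    rw [← ofAdd_add, Subgroup.coe_mul, cA_mul hu h g.2 g'.2]

theorem cA_inv (h : Fr σ e m f) {x : Su 3 F q} (hx : x ∈ flagFix σ e) :
    cA σ m f x⁻¹ = -cA σ m f x := by
  have := congrArg Multiplicative.toAdd (map_inv (cHom hu h) ⟨x, hx⟩)
  simpa [cHom] using this

theorem cA_pow (h : Fr σ e m f) {x : Su 3 F q} (hx : x ∈ flagFix σ e) (i : ℕ) :
    cA σ m f (x ^ i) = i * cA σ m f x := by
  have := congrArg Multiplicative.toAdd (map_pow (cHom hu h) ⟨x, hx⟩ i)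
  simpa [cHom, nsmul_eq_mul] using this

theorem cA_comm (h : Fr σ e m f) {x y : Su 3 F q} (hx : x ∈ flagFix σ e) (hy : y ∈ flagFix σ e) :
    cA σ m f ⁅x, y⁆ = 0 := by
  rw [commutatorElement_def, cA_mul hu h (mul_mem (mul_mem hx hy) (inv_mem hx)) (inv_mem hy),
    cA_mul hu h (mul_mem hx hy) (inv_mem hx), cA_mul hu h hx hy, cA_inv hu h hx, cA_inv hu h hy]
  ring

/-- The parameters of a torus element on the unipotent group. -/
theorem tw_uE (h : Fr σ e m f) (l : Fˣ) (i : ℕ) {a b : F} (ha : Adm σ a b) :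
    Adm σ ((σ (l : F) * σ l / l) ^ i * a) (((l : F) * σ l) ^ i * b) ∧
      tw (torHom hu h l) i (uE hu e m a b) =
        uE hu e m ((σ (l : F) * σ l / l) ^ i * a) (((l : F) * σ l) ^ i * b) := by
  obtain ⟨h1, h2⟩ := conj_uE hu h (l ^ i) ha
  have e1 : σ ((l ^ i : Fˣ) : F) * σ ((l ^ i : Fˣ) : F) / ((l ^ i : Fˣ) : F) =
      (σ (l : F) * σ l / l) ^ i := by
    rw [Units.val_pow_eq_pow_val, map_pow, div_pow, mul_pow]
  have e2 : ((l ^ i : Fˣ) : F) * σ ((l ^ i : Fˣ) : F) = ((l : F) * σ l) ^ i := by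
    rw [Units.val_pow_eq_pow_val, map_pow, mul_pow]
  rw [e1, e2] at h1 h2
  exact ⟨h1, by rw [← h2, map_pow]; rfl⟩

theorem tw_mem_flag (h : Fr σ e m f) (l : Fˣ) (i : ℕ) {x : Su 3 F q} (hx : x ∈ flagFix σ e) :
    tw (torHom hu h l) i x ∈ flagFix σ e ∧
      cA σ m f (tw (torHom hu h l) i x) = (σ (l : F) * σ l / l) ^ i * cA σ m f x := by
  obtain ⟨a, b, ha, rfl⟩ := mem_flag hu h hx
  obtain ⟨h1, h2⟩ := tw_uE hu h l i ha
  exact ⟨h2 ▸ h.uE_mem hu h1, by rw [h2, cA_uE hu h h1, cA_uE hu h ha]⟩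

/-- The centre of the unipotent group. -/
noncomputable def cen (h : Fr σ e m f) : Subgroup (Su 3 F q) :=
  (cHom hu h).ker.map (flagFix (q := q) σ e).subtype

theorem mem_cen (h : Fr σ e m f) {x : Su 3 F q} :
    x ∈ cen hu h ↔ x ∈ flagFix σ e ∧ cA σ m f x = 0 := by
  constructor
  · rintro ⟨⟨y, hy⟩, hk, rfl⟩
    exact ⟨hy, congrArg Multiplicative.toAdd hk⟩
  · rintro ⟨hx, h0⟩
    exact ⟨⟨x, hx⟩, congrArg Multiplicative.ofAdd h0, rfl⟩

theorem mem_cen_iff (h : Fr σ e m f) {x : Su 3 F q} :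
    x ∈ cen hu h ↔ ∃ c, c + σ c = 0 ∧ x = uE hu e m 0 c := by
  rw [mem_cen hu h]
  constructor
  · rintro ⟨hx, h0⟩
    obtain ⟨a, b, ha, rfl⟩ := mem_flag hu h hx
    rw [cA_uE hu h ha] at h0
    subst h0
    exact ⟨b, adm_zero.1 ha, rfl⟩
  · rintro ⟨c, hc, rfl⟩
    exact ⟨h.uE_mem hu (adm_zero.2 hc), cA_uE hu h (adm_zero.2 hc)⟩

theorem tw_cen (h : Fr σ e m f) (l : Fˣ) (i : ℕ) {x : Su 3 F q} (hx : x ∈ cen hu h) :
    tw (torHom hu h l) i x ∈ cen hu h := by
  rw [mem_cen hu h] at hx ⊢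
  obtain ⟨h1, h2⟩ := tw_mem_flag hu h l i hx.1
  exact ⟨h1, by rw [h2, hx.2, mul_zero]⟩

theorem mem_sup_cen (h : Fr σ e m f) {S : Subgroup (Su 3 F q)} (hS : S ≤ flagFix σ e) {x : Su 3 F q}
    (hx : x ∈ flagFix σ e) {y : Su 3 F q} (hy : y ∈ S) (he : cA σ m f y = cA σ m f x) :
    x ∈ S ⊔ cen hu h := by
  have : y⁻¹ * x ∈ cen hu h := (mem_cen hu h).2 ⟨mul_mem (inv_mem (hS hy)) hx, by
    rw [cA_mul hu h (inv_mem (hS hy)) hx, cA_inv hu h (hS hy), he, neg_add_cancel]⟩
  have := mul_mem (Subgroup.mem_sup_left (T := cen hu h) hy) (Subgroup.mem_sup_right (S := S) this)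
  simpa using this

theorem card_skew : Nat.card {c : F // c + σ c = 0} = q := by
  obtain ⟨c0, hc0, hc⟩ := skew_exists hu
  have e1 : σ c0 = -c0 := by linear_combination hc
  rw [← hu.card_fix]
  refine Nat.card_congr
    { toFun := fun c => ⟨c.1 / c0, ?_⟩
      invFun := fun r => ⟨r.1 * c0, ?_⟩
      left_inv := fun c => Subtype.ext (div_mul_cancel₀ _ hc0)
      right_inv := fun r => Subtype.ext (mul_div_cancel_right₀ _ hc0) }
  · show σ (c.1 / c0) = c.1 / c0
    rw [map_div₀, e1, show σ c.1 = -c.1 by linear_combination c.2, neg_div_neg_eq]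
  · have hr : σ r.1 = r.1 := r.2
    rw [map_mul, hr, e1]; ring

theorem card_cen (h : Fr σ e m f) : Nat.card (cen hu h) = q := by
  refine Eq.trans ?_ (card_skew hu)
  refine (Nat.card_congr (Equiv.ofBijective
    (fun c : {c : F // c + σ c = 0} =>
      (⟨uE hu e m 0 c.1, (mem_cen_iff hu h).2 ⟨c.1, c.2, rfl⟩⟩ : cen hu h)) ⟨?_, ?_⟩)).symm
  · intro c c' hcc
    exact Subtype.ext (h.uE_inj hu (adm_zero.2 c.2) (adm_zero.2 c'.2) (congrArg Subtype.val hcc)).2
  · rintro ⟨x, hx⟩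
    obtain ⟨c, hc, rfl⟩ := (mem_cen_iff hu h).1 hx
    exact ⟨⟨c, hc⟩, rfl⟩

theorem exists_adm (a : F) : ∃ b, Adm σ a b :=
  exists_trace hu.toIsInvol (a := -(σ a * a)) (by rw [map_neg, map_mul, hu.invol]; ring)

theorem card_flag (h : Fr σ e m f) : Nat.card ↥(flagFix (q := q) σ e) = q ^ 3 := by
  rw [Subgroup.card_eq_card_quotient_mul_card_subgroup (cHom hu h).ker,
    Nat.card_congr (QuotientGroup.quotientKerEquivOfSurjective (cHom hu h) fun a => by
      obtain ⟨b, hb⟩ := exists_adm hu a.toAdd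
      exact ⟨⟨uE hu e m a.toAdd b, h.uE_mem hu hb⟩, congrArg Multiplicative.ofAdd (cA_uE hu h hb)⟩).toEquiv,
    Nat.card_congr ((cHom hu h).ker.equivMapOfInjective _ (flagFix (q := q) σ e).subtype_injective).toEquiv,
    ← cen, card_cen hu h, Nat.card_congr Multiplicative.toAdd, AutPSU.card_F hu]
  ring

/-- A subgroup mapping onto the coordinates is everything. -/
theorem flag_le_of_proj (h : Fr σ e m f) {S : Subgroup (Su 3 F q)} (hS : S ≤ flagFix σ e)
    (hall : ∀ a, ∃ x ∈ S, cA σ m f x = a) : flagFix σ e ≤ S := by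
  have hcen : cen hu h ≤ S := by
    intro x hx
    obtain ⟨c, hc, rfl⟩ := (mem_cen_iff hu h).1 hx
    obtain ⟨t, ht⟩ := exists_trace hu.toIsInvol (a := (1 : F)) (map_one σ)
    obtain ⟨u, hus, hua⟩ := hall 1
    obtain ⟨v, hvs, hva⟩ := hall (σ (c * t))
    obtain ⟨a, d, had, rfl⟩ := mem_flag hu h (hS hus)
    obtain ⟨b, d', hbd, rfl⟩ := mem_flag hu h (hS hvs)
    rw [cA_uE hu h had] at hua
    rw [cA_uE hu h hbd] at hva
    subst hua hva
    have hprod := (h.uE_mul hu hbd had).1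
    have e1 : uE hu e m 1 d * uE hu e m (σ (c * t)) d' =
        uE hu e m 0 c * (uE hu e m (σ (c * t)) d' * uE hu e m 1 d) := by
      rw [(h.uE_mul hu had hbd).2, (h.uE_mul hu hbd had).2, (h.uE_mul hu (adm_zero.2 hc) hprod).2]
      congr 1
      · ring
      · simp only [map_one, map_zero, hu.invol, map_mul]
        linear_combination -(σ t) * hc + c * ht
    rw [eq_mul_inv_of_mul_eq e1.symm]
    exact mul_mem (mul_mem hus hvs) (inv_mem (mul_mem hvs hus))
  intro x hx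
  obtain ⟨y, hy, he⟩ := hall (cA σ m f x)
  exact sup_le le_rfl hcen (mem_sup_cen hu h hS hx hy he)

end Cfsg.Agent.SUThreePres
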