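import Cfsg.Agent.MinIndexPSU3.Pts
import Cfsg.Agent.SUThreePres.Cells

/-!
# The cells of `SU(3, q)` and the derivation of all relations of rank one from four
-/

set_option autoImplicit false

namespace Cfsg.Agent.SUThreePres

open Matrix Classical.Herm Cfsg.Agent.AutPSU Cfsg.Agent.MinIndexPSU3

variable {q : ℕ} {F : Type*} [Field F] [Fintype F] {σ : F →+* F} (hu : UCtx σ q)
  {e m f : Vn 3 F}

include hu

theorem exists_of_images (h : Fr σ e m f) {e' m' f' : Vn 3 F} (h' : Fr σ e' m' f')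
    (A : Matrix (Fin 3) (Fin 3) F) (hA : A.det = 1) (he : e' = A 0 0 • e + A 1 0 • m + A 2 0 • f)
    (hm : m' = A 0 1 • e + A 1 1 • m + A 2 1 • f) (hf : f' = A 0 2 • e + A 1 2 • m + A 2 2 • f) :
    ∃ g : Su 3 F q, mat g *ᵥ e = e' ∧ mat g *ᵥ m = m' ∧ mat g *ᵥ f = f' := by
  obtain ⟨r1, r2, r3, r4, r5, r6, r7, r8, r9⟩ := h.relations hu
  obtain ⟨s1, s2, s3, s4, s5, s6, s7, s8, s9⟩ := h'.relations hu
  let L : Vn 3 F →ₗ[F] Vn 3 F :=
    (hB 3 σ f).smulRight e' + (hB 3 σ m).smulRight m' + (hB 3 σ e).smulRight f'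
  have hL : ∀ x, L x = hB 3 σ f x • e' + hB 3 σ m x • m' + hB 3 σ e x • f' := fun x => rfl
  obtain ⟨g, hg⟩ := exists_gu hu L fun x y => by
    conv_rhs => rw [h.repr hu x, h.repr hu y]
    simp only [hL, map_add, map_smul, map_smulₛₗ, LinearMap.add_apply, LinearMap.smul_apply, smul_eq_mul,
      RingHom.id_apply, r1, r2, r3, r4, r5, r6, r7, r8, r9, s1, s2, s3, s4, s5, s6, s7, s8, s9]
  have ge : gmat g.1 *ᵥ e = e' := by rw [hg, hL]; simp [r1, r4, r7]
  have gm : gmat g.1 *ᵥ m = m' := by rw [hg, hL]; simp [r5, r6, r9]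
  have gf : gmat g.1 *ᵥ f = f' := by rw [hg, hL]; simp [r2, r3, r8]
  let P : Matrix (Fin 3) (Fin 3) F := Matrix.of fun i j => ![e, m, f] j i
  have hPv : ∀ w : Fin 3 → F, P *ᵥ w = w 0 • e + w 1 • m + w 2 • f := fun w => by
    funext i
    simp [P, Matrix.mulVec, dotProduct, Fin.sum_univ_three, mul_comm]
  have hP : IsUnit P.det := by
    rw [← Matrix.isUnit_iff_isUnit_det, ← Matrix.mulVec_surjective_iff_isUnit]
    intro x
    exact ⟨![hB 3 σ f x, hB 3 σ m x, hB 3 σ e x], by rw [hPv]; exact (h.repr hu x).symm⟩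
  have hgA : gmat g.1 * P = P * A := by
    refine Matrix.ext_of_mulVec_single fun j => ?_
    rw [← Matrix.mulVec_mulVec, ← Matrix.mulVec_mulVec, hPv, hPv]
    simp only [Matrix.mulVec_add, Matrix.mulVec_smul, ge, gm, gf]
    fin_cases j <;> simp [he, hm, hf]
  have hd : (gmat g.1).det = 1 := by
    have := congrArg Matrix.det hgA
    rw [Matrix.det_mul, Matrix.det_mul, hA, mul_one] at this
    exact mul_right_cancel₀ hP.ne_zero (this.trans (one_mul _).symm)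
  obtain ⟨s, hs⟩ := exists_su_of_gu hu g hd
  exact ⟨s, by rw [hs]; exact ge, by rw [hs]; exact gm, by rw [hs]; exact gf⟩

theorem exists_torus (h : Fr σ e m f) {l : F} (hl : l ≠ 0) :
    ∃ g : Su 3 F q, IsT σ e m f g l := by
  have hsl : σ l ≠ 0 := (map_ne_zero σ).2 hl
  obtain ⟨r1, r2, r3, r4, r5, r6, r7, r8, r9⟩ := h.relations hu
  have h' : Fr σ (l • e) ((σ l / l) • m) ((σ l)⁻¹ • f) :=
    ⟨⟨by simp [r1], by simp [r2], by simp [r3, hu.invol]; field_simp⟩,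
      ⟨by simp [r5], by simp [r6]⟩, by simp [r9, hu.invol]; field_simp⟩
  exact exists_of_images hu h h' (Matrix.diagonal ![l, σ l / l, (σ l)⁻¹])
    (by rw [Matrix.det_diagonal, Fin.prod_univ_three]; simp; field_simp)
    (by simp) (by simp) (by simp)

/-- The Weyl element of a frame. -/
def IsW (σ : F →+* F) (e m f : Vn 3 F) (g : Su 3 F q) : Prop :=
  mat g *ᵥ e = f ∧ mat g *ᵥ m = -m ∧ mat g *ᵥ f = e

theorem exists_weyl (h : Fr σ e m f) : ∃ g : Su 3 F q, IsW σ e m f g := by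
  obtain ⟨r1, r2, r3, r4, r5, r6, r7, r8, r9⟩ := h.relations hu
  have h' : Fr σ f (-m) e := ⟨⟨r2, r1, r4⟩, ⟨by simp [r6], by simp [r5]⟩, by simp [r9]⟩
  exact exists_of_images hu h h' !![0, 0, 1; 0, -1, 0; 1, 0, 0]
    (by simp [Matrix.det_fin_three]) (by simp) (by simp) (by simp)

omit [Fintype F] hu in
theorem IsW.sq (hu' : ∀ g g' : Su 3 F q, mat g *ᵥ e = mat g' *ᵥ e → mat g *ᵥ m = mat g' *ᵥ m →
    mat g *ᵥ f = mat g' *ᵥ f → g = g') {g : Su 3 F q} (hg : IsW σ e m f g) : g * g = 1 := by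
  obtain ⟨g1, g2, g3⟩ := hg
  refine hu' _ _ ?_ ?_ ?_ <;> rw [mat_mul_mulVec, mat_one_mulVec]
  · rw [g1, g3]
  · rw [g2, Matrix.mulVec_neg, g2, neg_neg]
  · rw [g3, g1]

theorem exists_torus_unit (h : Fr σ e m f) (l : Fˣ) : ∃ g : Su 3 F q, IsT σ e m f g l :=
  exists_torus hu h l.ne_zero

/-- The torus as the image of the units. -/
noncomputable def torHom (h : Fr σ e m f) : Fˣ →* Su 3 F q :=
  MonoidHom.mk' (fun l => (exists_torus_unit hu h l).choose) fun l l' => by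
    refine h.isT_unique hu (exists_torus_unit hu h (l * l')).choose_spec ?_
    rw [Units.val_mul]
    exact IsT.mul hu (exists_torus_unit hu h l).choose_spec (exists_torus_unit hu h l').choose_spec

theorem torHom_isT (h : Fr σ e m f) (l : Fˣ) : IsT σ e m f (torHom hu h l) (l : F) :=
  (exists_torus_unit hu h l).choose_spec

theorem torHom_injective (h : Fr σ e m f) : Function.Injective (torHom hu h) := by
  intro l l' hll
  have h1 := (torHom_isT hu h l).1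
  rw [hll, (torHom_isT hu h l').1] at h1
  exact Units.ext (smul_left_injective F h.hp.e_ne h1).symm

theorem eq_torHom (h : Fr σ e m f) {g : Su 3 F q} {l : F} (hl : l ≠ 0) (hg : IsT σ e m f g l) :
    g = torHom hu h (Units.mk0 l hl) :=
  h.isT_unique hu hg (torHom_isT hu h (Units.mk0 l hl))

theorem tor_weyl (h : Fr σ e m f) {w : Su 3 F q} (hw : IsW σ e m f w) (l : Fˣ) :
    ∃ l' : Fˣ, w * torHom hu h l * w = torHom hu h l' := by
  obtain ⟨w1, w2, w3⟩ := hw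
  obtain ⟨t1, t2, t3⟩ := torHom_isT hu h l
  have hl0 : (σ (l : F))⁻¹ ≠ 0 := inv_ne_zero ((map_ne_zero σ).2 l.ne_zero)
  refine ⟨Units.mk0 _ hl0, eq_torHom hu h hl0 ⟨?_, ?_, ?_⟩⟩ <;>
    rw [mat_mul_mulVec, mat_mul_mulVec]
  · rw [w1, t3, Matrix.mulVec_smul, w3]
  · rw [w2, Matrix.mulVec_neg, t2, Matrix.mulVec_neg, Matrix.mulVec_smul, w2]
    rw [map_inv₀, hu.invol, smul_neg, neg_neg]
    congr 1
    have := (map_ne_zero σ).2 l.ne_zero
    field_simp
  · rw [w3, t1, Matrix.mulVec_smul, w1, map_inv₀, hu.invol, inv_inv]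

theorem conj_uE (h : Fr σ e m f) (l : Fˣ) {a b : F} (ha : Adm σ a b) :
    Adm σ (σ (l : F) * σ l / l * a) ((l : F) * σ l * b) ∧
      torHom hu h l * uE hu e m a b * (torHom hu h l)⁻¹ =
        uE hu e m (σ (l : F) * σ l / l * a) ((l : F) * σ l * b) :=
  h.uE_conj hu l.ne_zero (torHom_isT hu h l) ha

theorem mem_flag (h : Fr σ e m f) {g : Su 3 F q} (hg : g ∈ flagFix σ e) :
    ∃ a b, Adm σ a b ∧ g = uE hu e m a b :=
  ⟨_, _, (h.flag_coord hu hg).1, (h.flag_coord hu hg).2⟩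

theorem uE_inv (h : Fr σ e m f) {a b : F} (ha : Adm σ a b) :
    Adm σ (-a) (σ b) ∧ (uE hu e m a b)⁻¹ = uE hu e m (-a) (σ b) := by
  have ha' : Adm σ (-a) (σ b) := by
    simp only [Adm, map_neg, hu.invol] at *
    linear_combination ha
  refine ⟨ha', inv_eq_of_mul_eq_one_right ?_⟩
  rw [(h.uE_mul hu ha ha').2, h.uE_eq_one hu (h.uE_mul hu ha ha').1]
  simp only [Adm] at ha
  exact ⟨add_neg_cancel a, by linear_combination ha⟩

theorem split (h : Fr σ e m f) {w : Su 3 F q} (hw : IsW σ e m f w) :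
    Split (flagFix σ e) (torHom hu h).range w where
  norm := by
    rintro _ ⟨l, rfl⟩ u hu'
    obtain ⟨a, b, ha, rfl⟩ := mem_flag hu h hu'
    obtain ⟨h1, h2⟩ := conj_uE hu h l ha
    rw [h2]
    exact h.uE_mem hu h1
  inter := by
    rw [eq_bot_iff]
    rintro g ⟨hg, l, rfl⟩
    have h1 := hg.1.symm.trans (torHom_isT hu h l).1
    have hl : (1 : F) = (l : F) := smul_left_injective F h.hp.e_ne (show (1 : F) • e = _ by rw [one_smul]; exact h1)
    rw [Subgroup.mem_bot, show l = 1 from Units.ext hl.symm, map_one]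
  ww := IsW.sq (fun g g' => h.ext hu) hw
  out := by
    rintro x hx _ ⟨l, rfl⟩ y hy h1
    have h2 := congrArg (fun g => mat g *ᵥ e) h1
    simp only [mat_mul_mulVec, mat_one_mulVec, hy.1, hw.1, (torHom_isT hu h l).2.2, Matrix.mulVec_smul] at h2
    obtain ⟨a, b, ha, rfl⟩ := mem_flag hu h hx
    rw [h.uE_f hu ha] at h2
    have h3 := congrArg (hB 3 σ e) h2
    obtain ⟨r1, r2, r3, r4, r5, r6, r7, r8, r9⟩ := h.relations hu
    simp [r1, r3, r5] at h3
  uniq := by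
    rintro x hx _ ⟨l, rfl⟩ y hy x' hx' _ ⟨l', rfl⟩ y' hy' h1
    have h2 := congrArg (fun g => mat g⁻¹ *ᵥ e) h1
    have e1 : ∀ (x : Su 3 F q), x ∈ flagFix σ e → ∀ (k : Fˣ) (y : Su 3 F q),
        mat (x * torHom hu h k * w * y)⁻¹ *ᵥ e = ((k⁻¹ : Fˣ) : F) • (mat y⁻¹ *ᵥ f) := by
      intro x hx k y
      rw [_root_.mul_inv_rev, _root_.mul_inv_rev, _root_.mul_inv_rev, ← map_inv,
        inv_eq_of_mul_eq_one_right (IsW.sq (fun g g' => h.ext hu) hw)]
      simp only [mat_mul_mulVec, ((flagFix σ e).inv_mem hx).1, (torHom_isT hu h k⁻¹).1,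
        Matrix.mulVec_smul, hw.1]
    simp only [e1 x hx, e1 x' hx'] at h2
    obtain ⟨a, b, ha, eq1⟩ := mem_flag hu h ((flagFix σ e).inv_mem hy)
    obtain ⟨a', b', ha', eq2⟩ := mem_flag hu h ((flagFix σ e).inv_mem hy')
    rw [eq1, eq2, h.uE_f hu ha, h.uE_f hu ha'] at h2
    obtain ⟨r1, r2, r3, r4, r5, r6, r7, r8, r9⟩ := h.relations hu
    have c1 := congrArg (hB 3 σ e) h2
    have hll : l = l' := Units.ext (by simpa [r1, r3, r5] using c1)
    subst hll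
    have h3 := smul_right_injective _ (Units.ne_zero l⁻¹) h2
    have c2 := congrArg (hB 3 σ m) h3
    have c3 := congrArg (hB 3 σ f) h3
    simp [r2, r4, r6, r7, r8, r9] at c2 c3
    rw [← _root_.inv_inj, eq1, eq2, c2, c3]

/-- The last factor of a Weyl conjugate. -/
theorem ypart (h : Fr σ e m f) {w : Su 3 F q} (hw : IsW σ e m f w) {a b : F} (ha : Adm σ a b)
    {x : Su 3 F q} (hx : x ∈ flagFix σ e) (l : Fˣ) {y : Su 3 F q} (hy : y ∈ flagFix σ e)
    (he : w * uE hu e m a b * w = x * torHom hu h l * w * y) :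
    b ≠ 0 ∧ Adm σ (-a / σ b) b⁻¹ ∧ y = uE hu e m (-a / σ b) b⁻¹ := by
  have hww : w⁻¹ = w := inv_eq_of_mul_eq_one_right (IsW.sq (fun g g' => h.ext hu) hw)
  have h2 := congrArg (fun g => mat g⁻¹ *ᵥ e) he
  obtain ⟨hai, hinv⟩ := uE_inv hu h ha
  simp only [_root_.mul_inv_rev, hinv, hww, ← map_inv, mat_mul_mulVec, hw.1,
    ((flagFix σ e).inv_mem hx).1, (torHom_isT hu h l⁻¹).1, Matrix.mulVec_smul] at h2
  rw [h.uE_f hu hai, Matrix.mulVec_add, Matrix.mulVec_add, Matrix.mulVec_smul, Matrix.mulVec_smul,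
    hw.1, hw.2.1, hw.2.2] at h2
  obtain ⟨α, d, hd, hyi⟩ := mem_flag hu h ((flagFix σ e).inv_mem hy)
  rw [hyi, h.uE_f hu hd] at h2
  obtain ⟨r1, r2, r3, r4, r5, r6, r7, r8, r9⟩ := h.relations hu
  have c1 := congrArg (hB 3 σ e) h2
  have c2 := congrArg (hB 3 σ m) h2
  have c3 := congrArg (hB 3 σ f) h2
  simp [r1, r2, r3, r4, r5, r6, r7, r8, r9] at c1 c2 c3
  have hb : b ≠ 0 := by
    rintro rfl
    rw [map_zero] at c1
    exact inv_ne_zero l.ne_zero c1.symm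
  have hsb : σ b ≠ 0 := (map_ne_zero σ).2 hb
  have hl : (l : F)⁻¹ = σ b := c1.symm
  rw [hl] at c2 c3
  have hα : α = a / σ b := by rw [eq_div_iff hsb]; linear_combination -c2
  have hd' : d = (σ b)⁻¹ := eq_inv_of_mul_eq_one_right c3.symm
  subst hα hd'
  obtain ⟨hy1, hy2⟩ := uE_inv hu h hd
  rw [map_inv₀, hu.invol, ← neg_div] at hy1 hy2
  exact ⟨hb, hy1, by rw [← hy2, ← hyi, inv_inv]⟩

/-- Every element lies in one of the two cells. -/
theorem bruhat (h : Fr σ e m f) {w : Su 3 F q} (hw : IsW σ e m f w) (g : Su 3 F q) :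
    (∃ x ∈ flagFix σ e, ∃ l, g = x * torHom hu h l) ∨
      ∃ x ∈ flagFix σ e, ∃ l, ∃ y ∈ flagFix σ e, g = x * torHom hu h l * w * y := by
  have hB : ∀ g : Su 3 F q, (∃ l : F, mat g *ᵥ e = l • e) →
      ∃ x ∈ flagFix σ e, ∃ l, g = x * torHom hu h l := by
    rintro g ⟨l, hg⟩
    obtain ⟨hl, s, hs, k, hk, rfl⟩ := h.decomp hu hg
    exact ⟨s, hs, Units.mk0 l hl, by rw [← eq_torHom hu h hl hk]⟩
  by_cases hc : ∃ a : F, mat g *ᵥ e = a • e
  · exact Or.inl (hB g hc)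
  · obtain ⟨s, hs, a, ha, hsf⟩ := h.other hu (mat_mulVec_ne_zero g h.hp.e_ne)
      (by rw [hB_mat hu]; exact h.hp.ee) hc
    obtain ⟨x, hx, l, hxl⟩ := hB (w⁻¹ * s⁻¹ * g) ⟨a⁻¹, by
      have h1 : mat g *ᵥ e = a⁻¹ • (mat s *ᵥ f) := by
        rw [hsf, smul_smul, inv_mul_cancel₀ ha, one_smul]
      rw [mat_mul_mulVec, mat_mul_mulVec, h1, Matrix.mulVec_smul, mat_inv_mulVec, Matrix.mulVec_smul]
      congr 1
      conv_lhs => rw [← hw.1]
      exact mat_inv_mulVec w e⟩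
    obtain ⟨l', hl'⟩ := tor_weyl hu h hw l
    refine Or.inr ⟨s, hs, l', (torHom hu h l)⁻¹ * x * torHom hu h l, ?_, ?_⟩
    · have := (split hu h hw).norm (torHom hu h l)⁻¹ (inv_mem ⟨l, rfl⟩) x hx
      simpa using this
    · have hww := IsW.sq (fun g g' => h.ext hu) hw
      have h2 : g = s * w * (x * torHom hu h l) := by rw [← hxl]; group
      rw [h2, ← hl']
      calc s * w * (x * torHom hu h l)
          = s * (w * torHom hu h l) * ((torHom hu h l)⁻¹ * x * torHom hu h l) := by group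
        _ = s * (w * torHom hu h l * (w * w)) * ((torHom hu h l)⁻¹ * x * torHom hu h l) := by
            rw [hww, mul_one]
        _ = _ := by simp only [mul_assoc]

theorem exists_good (h : Fr σ e m f) {w : Su 3 F q} (hw : IsW σ e m f w) {u : Su 3 F q}
    (hu' : u ∈ flagFix σ e) (h1 : u ≠ 1) :
    ∃ x ∈ flagFix σ e, ∃ l, ∃ y ∈ flagFix σ e, w * u * w = x * torHom hu h l * w * y := by
  refine (bruhat hu h hw (w * u * w)).resolve_left ?_
  rintro ⟨x, hx, l, hxl⟩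
  have h2 := congrArg (fun g => mat g *ᵥ e) hxl
  obtain ⟨a, b, ha, rfl⟩ := mem_flag hu h hu'
  simp only [mat_mul_mulVec, hw.1, (torHom_isT hu h l).1, Matrix.mulVec_smul, hx.1] at h2
  rw [h.uE_f hu ha, Matrix.mulVec_add, Matrix.mulVec_add, Matrix.mulVec_smul, Matrix.mulVec_smul,
    hw.1, hw.2.1, hw.2.2] at h2
  obtain ⟨r1, r2, r3, r4, r5, r6, r7, r8, r9⟩ := h.relations hu
  have c1 := congrArg (hB 3 σ e) h2
  have c2 := congrArg (hB 3 σ m) h2
  simp [r1, r3, r5, r7, r8, r9] at c1 c2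
  exact h1 ((h.uE_eq_one hu ha).2 ⟨c2, c1⟩)

end Cfsg.Agent.SUThreePres
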