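import Mathlib

/-!
# Conjugates of commuting elements under a cyclic group
-/

set_option autoImplicit false

namespace Cfsg.Agent.SUThreePres

variable {G : Type*} [Group G]

/-- The `i`-th conjugate. -/
def tw (α : G) (i : ℕ) (x : G) : G := α ^ i * x * (α ^ i)⁻¹

theorem tw_zero (α x : G) : tw α 0 x = x := by simp [tw]

theorem tw_one (α x : G) : tw α 1 x = α * x * α⁻¹ := by simp [tw]

theorem tw_tw (α : G) (i j : ℕ) (x : G) : tw α i (tw α j x) = tw α (i + j) x := by
  simp only [tw, pow_add]; group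

theorem tw_mul (α : G) (i : ℕ) (x y : G) : tw α i (x * y) = tw α i x * tw α i y := by
  simp only [tw]; group

theorem tw_pow (α : G) (i : ℕ) (x : G) (k : ℕ) : tw α i (x ^ k) = tw α i x ^ k :=
  (map_pow (MulAut.conj (α ^ i)).toMonoidHom x k)

theorem tw_map {H : Type*} [Group H] (f : G →* H) (α : G) (i : ℕ) (x : G) :
    f (tw α i x) = tw (f α) i (f x) := by
  simp [tw]

theorem tw_comm {α β : G} (h : Commute α β) (i : ℕ) (x : G) :
    β * tw α i x * β⁻¹ = tw α i (β * x * β⁻¹) := by
  have e : β * α ^ i = α ^ i * β := ((h.pow_left i).symm).eq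
  calc β * tw α i x * β⁻¹ = (β * α ^ i) * x * (β * α ^ i)⁻¹ := by simp only [tw]; group
    _ = _ := by rw [e]; simp only [tw]; group

theorem commute_tw (α : G) (i : ℕ) {x y : G} (h : Commute x y) : Commute (tw α i x) (tw α i y) :=
  h.map (MulAut.conj (α ^ i)).toMonoidHom

/-- The way a second element shows that the conjugates commute: a multiplier `1 + a`, or a
conjugate in the cyclic group. -/
def Mult (α β x : G) : Prop :=
  (Commute α β ∧ β * x * β⁻¹ = x * tw α 1 x) ∨ tw α 1 x ∈ Subgroup.zpowers x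

theorem tw_mem_zpowers {α x : G} (h : tw α 1 x ∈ Subgroup.zpowers x) :
    ∀ i, tw α i x ∈ Subgroup.zpowers x
  | 0 => by rw [tw_zero]; exact Subgroup.mem_zpowers x
  | i + 1 => by
    obtain ⟨k, hk⟩ := tw_mem_zpowers h i
    rw [add_comm i 1, ← tw_tw, ← hk]
    show (MulAut.conj (α ^ 1)).toMonoidHom (x ^ k) ∈ _
    rw [map_zpow]
    exact zpow_mem h k

/-- The induction step. -/
theorem commute_step {a b c d : G} (h : Commute (a * b) (c * d)) (hac : Commute a c)
    (hbc : Commute b c) (hbd : Commute b d) : Commute a d := by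
  have e1 : a * b * (c * d) = c * a * (d * b) := by
    calc a * b * (c * d) = a * (b * c) * d := by group
      _ = a * c * (b * d) := by rw [hbc.eq]; group
      _ = _ := by rw [hac.eq, hbd.eq]
  have e2 := h.eq
  rw [e1] at e2
  have e3 : c * (a * d) * b = c * (d * a) * b := by
    calc c * (a * d) * b = c * a * (d * b) := by group
      _ = c * d * (a * b) := e2
      _ = _ := by group
  exact mul_left_cancel (mul_right_cancel e3)

theorem cross {α β x y : G} (hβ : (Commute α β ∧ β * x * β⁻¹ = x * tw α 1 x ∧ β * y * β⁻¹ = y * tw α 1 y) ∨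
      (tw α 1 x ∈ Subgroup.zpowers x ∧ tw α 1 y ∈ Subgroup.zpowers y))
    (h0 : Commute x y) (h1 : Commute x (tw α 1 y)) (h1' : Commute (tw α 1 x) y) :
    ∀ i j, Commute (tw α i x) (tw α j y) := by
  rcases hβ with ⟨hc, hx, hy⟩ | ⟨hx, hy⟩
  swap
  · intro i j
    obtain ⟨a, ha⟩ := tw_mem_zpowers hx i
    obtain ⟨b, hb⟩ := tw_mem_zpowers hy j
    rw [← ha, ← hb]
    exact h0.zpow_zpow a b
  have key : ∀ k, Commute x (tw α k y) ∧ Commute (tw α k x) y := by
    intro k
    induction k using Nat.strong_induction_on with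
    | _ k ih =>
      match k with
      | 0 => rw [tw_zero, tw_zero]; exact ⟨h0, h0⟩
      | 1 => exact ⟨h1, h1'⟩
      | k + 2 =>
        obtain ⟨a1, b1⟩ := ih k (by omega)
        obtain ⟨a2, b2⟩ := ih (k + 1) (by omega)
        constructor
        · have hh := a2.map (MulAut.conj β).toMonoidHom
          simp only [MulEquiv.coe_toMonoidHom, MulAut.conj_apply] at hh
          rw [hx, tw_comm hc, hy, tw_mul, tw_tw] at hh
          refine commute_step hh a2 ?_ ?_
          · have := commute_tw α 1 a1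
            rwa [tw_tw, show 1 + k = k + 1 by omega] at this
          · have := commute_tw α 1 a2
            rwa [tw_tw, show 1 + (k + 1) = k + 1 + 1 by omega] at this
        · have hh := b2.map (MulAut.conj β).toMonoidHom
          simp only [MulEquiv.coe_toMonoidHom, MulAut.conj_apply] at hh
          rw [hy, tw_comm hc, hx, tw_mul, tw_tw] at hh
          refine (commute_step hh.symm b2.symm ?_ ?_).symm
          · have := (commute_tw α 1 b1).symm
            rwa [tw_tw, show 1 + k = k + 1 by omega] at this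
          · have := (commute_tw α 1 b2).symm
            rwa [tw_tw, show 1 + (k + 1) = k + 1 + 1 by omega] at this
  intro i j
  rcases le_total i j with h | h
  · obtain ⟨d, rfl⟩ := Nat.exists_eq_add_of_le h
    have := commute_tw α i (key d).1
    rwa [tw_tw] at this
  · obtain ⟨d, rfl⟩ := Nat.exists_eq_add_of_le h
    have := commute_tw α j (key d).2
    rwa [tw_tw] at this

theorem self_commute {α β x : G} (hβ : Mult α β x) (h1 : Commute x (tw α 1 x)) :
    ∀ i j, Commute (tw α i x) (tw α j x) :=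
  cross (hβ.imp (fun h => ⟨h.1, h.2, h.2⟩) (fun h => ⟨h, h⟩)) (Commute.refl x) h1 h1.symm

/-- The subgroup of the first `d` conjugates. -/
def lineSub (α : G) (d : ℕ) (x : G) : Subgroup G :=
  Subgroup.closure ((fun i => tw α i x) '' {i | i < d})

theorem lineSub_mono (α x : G) {d d' : ℕ} (h : d ≤ d') : lineSub α d x ≤ lineSub α d' x :=
  Subgroup.closure_mono (Set.image_mono fun _ hi => lt_of_lt_of_le hi h)

theorem tw_mem_lineSub {α x : G} {d i : ℕ} (h : i < d) : tw α i x ∈ lineSub α d x :=
  Subgroup.subset_closure ⟨i, h, rfl⟩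

theorem lineSub_le {α x : G} {d : ℕ} {B : Subgroup G} (h : ∀ i, tw α i x ∈ B) : lineSub α d x ≤ B :=
  (Subgroup.closure_le B).mpr (by rintro _ ⟨i, -, rfl⟩; exact h i)

theorem line_bound {α x : G} {p f : ℕ} (hp : 0 < p) (hxp : x ^ p = 1)
    (hcomm : ∀ i j, Commute (tw α i x) (tw α j x))
    (hd : ∃ d ≤ f, tw α d x ∈ lineSub α d x) :
    (∀ i, tw α i x ∈ lineSub α f x) ∧ Finite ↥(lineSub α f x) ∧
      Nat.card ↥(lineSub α f x) ≤ p ^ f := by
  have : NeZero p := ⟨by omega⟩
  obtain ⟨d, hdf, hd⟩ := hd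
  have hall : ∀ i, tw α i x ∈ lineSub α d x := by
    intro i
    induction i with
    | zero =>
      rcases Nat.eq_zero_or_pos d with h | h
      · subst h; exact hd
      · exact tw_mem_lineSub h
    | succ i ih =>
      rw [add_comm, ← tw_tw]
      have hle : lineSub α d x ≤ (lineSub α d x).comap (MulAut.conj (α ^ 1)).toMonoidHom := by
        refine (Subgroup.closure_le _).mpr ?_
        rintro _ ⟨j, hj, rfl⟩
        show tw α 1 (tw α j x) ∈ lineSub α d x
        rw [tw_tw]
        rcases eq_or_lt_of_le (show 1 + j ≤ d by simp only [Set.mem_setOf_eq] at hj; omega) with h | h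
        · rw [h]; exact hd
        · exact tw_mem_lineSub h
      exact hle ih
  refine ⟨fun i => lineSub_mono α x hdf (hall i), ?_⟩
  let g : Fin f → G := fun i => tw α i.val x
  have hpow : ∀ i, g i ^ p = 1 := fun i => by
    show tw α i.val x ^ p = 1
    rw [← tw_pow, hxp]; simp [tw]
  let ϕ : ∀ _ : Fin f, Multiplicative (ZMod p) →* G := fun i =>
    AddMonoidHom.toMultiplicativeLeft (ZMod.lift p ⟨zmultiplesHom _ (Additive.ofMul (g i)), by
      simp only [zmultiplesHom_apply]
      rw [natCast_zsmul, ← ofMul_pow, hpow, ofMul_one]⟩)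
  have hϕ : ∀ i (k : ℤ), ϕ i (Multiplicative.ofAdd (k : ZMod p)) = g i ^ k := fun i k => by
    simp [ϕ, toMul_zsmul]
  have hc : Pairwise fun i j => ∀ a b, Commute (ϕ i a) (ϕ j b) := by
    intro i j _ a b
    obtain ⟨kb, hb⟩ := ZMod.intCast_surjective b.toAdd
    have ea : a = Multiplicative.ofAdd a.toAdd := rfl
    have eb : b = Multiplicative.ofAdd b.toAdd := rfl
    obtain ⟨ka, hka⟩ := ZMod.intCast_surjective a.toAdd
    rw [ea, eb, ← hka, ← hb, hϕ, hϕ]
    exact (hcomm _ _).zpow_zpow _ _
  let ΨH : (Fin f → Multiplicative (ZMod p)) →* G := MonoidHom.noncommPiCoprod ϕ hc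
  have hle : lineSub α f x ≤ ΨH.range := by
    refine (Subgroup.closure_le _).mpr ?_
    rintro _ ⟨i, hi, rfl⟩
    refine ⟨Pi.mulSingle (⟨i, hi⟩ : Fin f) (Multiplicative.ofAdd ((1 : ℤ) : ZMod p)), ?_⟩
    rw [MonoidHom.noncommPiCoprod_mulSingle, hϕ, zpow_one]
  have hsurj := ΨH.rangeRestrict_surjective
  have hfin : Finite ΨH.range := Finite.of_surjective _ hsurj
  refine ⟨Finite.of_injective _ (Subgroup.inclusion_injective hle), ?_⟩
  calc Nat.card ↥(lineSub α f x) ≤ Nat.card ΨH.range :=
        Nat.card_le_card_of_injective _ (Subgroup.inclusion_injective hle)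
    _ ≤ Nat.card (Fin f → Multiplicative (ZMod p)) :=
        Nat.card_le_card_of_surjective _ hsurj
    _ = p ^ f := by
        rw [Nat.card_fun, Nat.card_fin, Nat.card_congr Multiplicative.toAdd, Nat.card_zmod]

end Cfsg.Agent.SUThreePres
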